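import Groth.Agent.LazMukLib.Simple
import Groth.Agent.VBLib.DualOps

/-!
# The Euler characteristic of the endomorphisms of a simple bundle on a surface with trivial canonical module
-/

set_option autoImplicit false
set_option backward.isDefEq.respectTransparency false
set_option linter.style.haveILetI false
set_option maxHeartbeats 1000000
set_option synthInstance.maxHeartbeats 200000

universe u

open CategoryTheory CategoryTheory.Limits AlgebraicGeometry TopologicalSpace
open Groth.Agent.DCohLib Groth.Agent.VBLib.DualDeg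

noncomputable section

namespace Groth.Agent.LazMuk

local instance hasHF' {X : Scheme.{u}} (M : X.Modules) : ModSite.HasSheafHom (O := X.sheaf) M :=
  ModTensor.hasSheafHom (O := X.sheaf) M

/-- Finite locally free modules are reflexive. -/
theorem isReflexive_flf' {X : Scheme.{u}} [IsLocallyNoetherian X] {n : ℕ} {F : X.Modules}
    (hF : FlatMod.IsFinLocFreeOfRank n F) : RefHull.IsReflexive F := by
  have hc := CurveLib.isCoh_of_isFinLocFree (flf_of_rank hF)
  refine (RefOne.isReflexive_iff hc).2 fun x => ?_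
  obtain ⟨e⟩ := CurveLib.freeAt_of_isFinLocFreeOfRank hF x
  haveI : Module.Free (X.presheaf.stalk x) (F.presheaf.stalk x) := Module.Free.of_equiv e.symm
  haveI : Module.Finite (X.presheaf.stalk x) (F.presheaf.stalk x) := Module.Finite.equiv e.symm
  exact inferInstanceAs (Module.IsReflexive (X.presheaf.stalk x) (F.presheaf.stalk x))

/-- The double dual of a finite locally free module. -/
theorem nonempty_dd_dd {X : Scheme.{u}} [IsLocallyNoetherian X] {n : ℕ} {F : X.Modules}
    (hF : FlatMod.IsFinLocFreeOfRank n F) : Nonempty (dd (dd F) ≅ F) := by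
  obtain ⟨a⟩ := VBLib.DualOps.nonempty_dd_iso_dual (flf_of_rank hF)
  have hdu : FlatMod.IsFinLocFree (RefHull.dual F) :=
    fun x => by
    obtain ⟨U, hx, ⟨e⟩⟩ := rank_dd hF x
    exact ⟨U, n, hx, ⟨(Scheme.Modules.restrictFunctor U.ι).mapIso a.symm ≪≫ e⟩⟩
  obtain ⟨b⟩ := VBLib.DualOps.nonempty_dd_iso_dual hdu
  haveI : IsIso (RefHull.bidualMap F) := isReflexive_flf' hF
  exact ⟨VBLib.DualOps.ddIso a.symm ≪≫ b ≪≫ (asIso (RefHull.bidualMap F)).symm⟩

variable (k : Type u) [Field k] {X : Scheme.{u}} [X.Over (Spec (CommRingCat.of k))]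

/-- When every endomorphism is a scalar, the endomorphisms have at most one independent section. -/
theorem finrank_H0_hF_le_one {F : X.Modules} [Coh.IsQCoh F]
    (h : ∀ φ : F ⟶ F, ∃ c : k, φ = FactorOne.mulEnd F (Coh.toGlobal (X ↘ Spec (CommRingCat.of k)) c)) :
    Module.finrank k (Coh.HH X ((StalkHomLib.hF F).obj F) 0) ≤ 1 := by
  rw [← ((BCLib.gammaH0 (A := k) _).symm.trans (ProjSerreLib.homSectEquiv k F F)).finrank_eq.symm]
  refine finrank_le_one (𝟙 F) fun φ => ?_
  obtain ⟨c, rfl⟩ := h φ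
  refine ⟨c, Scheme.Modules.hom_ext _ _ fun U => AddCommGrpCat.hom_ext (AddMonoidHom.ext fun s => ?_)⟩
  show (c • 𝟙 F).app U s = (FactorOne.mulEnd F _).app U s
  rw [KLin.smul_app_apply, FactorOne.mulEnd_app]
  rfl

variable [IsProper (X ↘ Spec (CommRingCat.of k))] [IsIntegral X] [Smooth (X ↘ Spec (CommRingCat.of k))]

/-- `χ(End F) ≤ 2` for a simple bundle. -/
theorem euler_end_le_two (hdim : topologicalKrullDim X = 2) {H : X.Modules} (hH : CohB1.IsAmple H)
    (hK : ExtPow.IsExtPow 2 (Omega.sheaf (X ↘ Spec (CommRingCat.of k))) (Coh.structureModule X))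
    {n : ℕ} {F : X.Modules} (hF : FlatMod.IsFinLocFreeOfRank n F)
    (h : ∀ φ : F ⟶ F, ∃ c : k, φ = FactorOne.mulEnd F (Coh.toGlobal (X ↘ Spec (CommRingCat.of k)) c)) :
    Curv2.euler k X (RefHull.homSh F F) ≤ 2 := by
  haveI := EulerIneqLib.isNoetherian_proper (X := X) k
  have hFc := CurveLib.isCoh_of_isFinLocFree (flf_of_rank hF)
  haveI := hFc.1
  haveI := DefExtLib.isIso_toHomSh F F
  haveI := LocFreeHomLib.isIso_alpha F (flf_of_rank hF) F
  let P := tmod F (dd F)
  let eP : P ≅ (StalkHomLib.hF F).obj F := asIso (LocFreeHomLib.alpha F F)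
  have hP : FlatMod.IsFinLocFree P :=
    DCohLib.isFinLocFree_tensor (flf_of_rank hF) (flf_of_rank (rank_dd hF))
  obtain ⟨d⟩ := VBLib.DualOps.nonempty_dd_tensor (B := dd F) (flf_of_rank hF)
  obtain ⟨w⟩ := nonempty_dd_dd hF
  let eD : dd P ≅ P := d ≪≫ AmpleLib.tIso w (Iso.refl (dd F))
  obtain ⟨N, ι, hι0, hι⟩ := TwistShriek.exists_closedImmersion_of_ample (X ↘ Spec (CommRingCat.of k)) hH
  haveI := hι0
  haveI : SmoothOfRelativeDimension 2 (X ↘ Spec (CommRingCat.of k)) :=
    TwistShriek.smoothOfRelativeDimension_of_smooth (X ↘ Spec (CommRingCat.of k)) hdim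
  obtain ⟨t, ht⟩ := FundLocIsoLib.exists_trace_topForms ι hι hK
  have hcm := FundLocIsoLib.cm_closedPoint (n := 2) ι hι
  have hω := FundLocIsoLib.isCoh_topForms ι hι hK
  have hd := ProjSerreLib.finrank_hF_gen ι hω (ProjSerreLib.vanish_of_cm ι hcm) t hdim.le ht 0 (by omega) P hP
  have h0 : Module.finrank k (Coh.HH X P 0) ≤ 1 := by
    rw [ShBCLib.finrank_HH_iso (K := k) eP 0]
    exact finrank_H0_hF_le_one k h
  have h2 : Module.finrank k (Coh.HH X P 2) ≤ 1 := by
    have : Module.finrank k (Coh.HH X (dd P) 0) = Module.finrank k (Coh.HH X P 2) := hd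
    rw [← this, ShBCLib.finrank_HH_iso (K := k) eD 0]
    exact h0
  rw [← CurveLib.euler_iso (K := k) (eP ≪≫ asIso (DefExtLib.toHomSh F F)),
    CurveLib.euler_eq_sum (K := k) P 3 fun q hq => CurveLib.subsingleton_HH_of_dim (d := 2) _ hdim.le (by omega)]
  simp only [Finset.sum_range_succ, Finset.sum_range_zero]
  norm_num
  omega

end Groth.Agent.LazMuk
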