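import Groth.Agent.LazMukLib.Basic
import Groth.Agent.NormalRefLib.Basic
import Groth.Agent.MuSimpleLib.Basic
import Groth.Agent.DegDevLib.Frame
import Groth.Agent.TFCurvSSLib.NormMod
import Groth.Agent.ZClosLib.DepthCor
import Groth.Agent.TwistShriek.SurfRR

/-!
# Submodules of free modules: coordinate projections, extension across finite sets
-/

set_option autoImplicit false
set_option backward.isDefEq.respectTransparency false
set_option linter.style.haveILetI false
set_option maxHeartbeats 1000000
set_option synthInstance.maxHeartbeats 200000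

universe u

open CategoryTheory CategoryTheory.Limits AlgebraicGeometry TopologicalSpace Opposite
open Groth.Agent.PullbackMod Groth.Agent.DegDevLib

noncomputable section

namespace Groth.Agent.LazMuk

variable {X : Scheme.{u}}

/-- Some coordinates restrict to coordinates on a given subspace. -/
theorem exists_coord {K : Type*} [Field K] {e : ℕ} (W : Submodule K (Fin e → K)) :
    ∃ (r : ℕ) (σ : Fin r → Fin e), Function.Injective σ ∧
      Function.Bijective fun (w : W) (i : Fin r) => (w : Fin e → K) (σ i) := by
  let φ : Fin e → Module.Dual K W := fun j => (LinearMap.proj j).comp W.subtype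
  obtain ⟨κ, a, ha, hspan, hli⟩ := exists_linearIndependent' K φ
  haveI : Finite κ := Finite.of_injective a ha
  haveI := Fintype.ofFinite κ
  let v := Fintype.equivFin κ
  refine ⟨Fintype.card κ, a ∘ v.symm, ha.comp v.symm.injective, ?_⟩
  let p : W →ₗ[K] (Fin (Fintype.card κ) → K) := LinearMap.pi fun i => φ (a (v.symm i))
  show Function.Bijective p
  have hinj : Function.Injective p := by
    rw [injective_iff_map_eq_zero]
    intro w hw
    refine Subtype.ext (funext fun j => ?_)
    have hle : Submodule.span K (Set.range (φ ∘ a)) ≤ LinearMap.ker (LinearMap.applyₗ w : Module.Dual K W →ₗ[K] K) :=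
      Submodule.span_le.2 fun x hx => by
        obtain ⟨i, hi⟩ := hx
        have := congrFun hw (v i)
        simpa [p, ← hi] using this
    have hj : φ j ∈ Submodule.span K (Set.range (φ ∘ a)) := by
      rw [hspan]; exact Submodule.subset_span ⟨j, rfl⟩
    exact hle hj
  refine ⟨hinj, ?_⟩
  have h1 := hli.fintype_card_le_finrank
  rw [Subspace.dual_finrank_eq] at h1
  have h2 := LinearMap.finrank_le_finrank_of_injective hinj
  rw [Module.finrank_pi, Fintype.card_fin] at h2
  exact (LinearMap.injective_iff_surjective_of_finrank_eq_finrank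
    (by rw [Module.finrank_pi, Fintype.card_fin]; omega)).1 hinj

theorem stalkLin_stdGerm_sigma {M : X.Modules} {n : ℕ} (p : FlatMod.freeMod X n ⟶ M) (x : X) (i : Fin n) :
    stalkLin p x (stdGerm n x i) =
      stalkLin (Sigma.ι (fun _ : Fin n => Coh.structureModule X) i ≫ p) x (ParaFLib.oneG x) := by
  rw [stdGerm, stalkLin_comp, LinearMap.comp_apply]

/-- A submodule of a free module meets the generic stalk of some coordinate subspace isomorphically. -/
theorem exists_proj [IsIntegral X] {G : X.Modules} {e : ℕ} (f : G ⟶ FlatMod.freeMod X e)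
    (hf : Function.Injective (stalkLin f (genericPoint X))) :
    ∃ (r : ℕ) (σ : Fin r → Fin e) (π : FlatMod.freeMod X e ⟶ FlatMod.freeMod X r), Function.Injective σ ∧
      (∀ i, Sigma.ι (fun _ : Fin e => Coh.structureModule X) (σ i) ≫ π =
        Sigma.ι (fun _ : Fin r => Coh.structureModule X) i) ∧
      Function.Bijective (stalkLin (f ≫ π) (genericPoint X)) := by
  classical
  let η := genericPoint X
  let R := X.presheaf.stalk η
  letI : Field R := RefOne.isField_gen.toField
  let c : (Fin e → R) ≃ₗ[R] (FlatMod.freeMod X e).presheaf.stalk η :=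
    LinearEquiv.ofBijective _ (stdGerm_bijective e η)
  let fη : G.presheaf.stalk η →ₗ[R] (Fin e → R) := c.symm.toLinearMap ∘ₗ stalkLin f η
  have hfη : Function.Injective fη := c.symm.injective.comp hf
  obtain ⟨r, σ, hσ, hb⟩ := exists_coord (LinearMap.range fη)
  let π : FlatMod.freeMod X e ⟶ FlatMod.freeMod X r := Sigma.desc fun j =>
    if h : ∃ i, σ i = j then Sigma.ι (fun _ : Fin r => Coh.structureModule X) h.choose else 0
  have hπ : ∀ i, Sigma.ι (fun _ : Fin e => Coh.structureModule X) (σ i) ≫ π =
      Sigma.ι (fun _ : Fin r => Coh.structureModule X) i := fun i => by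
    have h : ∃ i', σ i' = σ i := ⟨i, rfl⟩
    rw [Sigma.ι_desc, dif_pos h, hσ h.choose_spec]
  have hπ0 : ∀ j, (¬ ∃ i, σ i = j) → Sigma.ι (fun _ : Fin e => Coh.structureModule X) j ≫ π = 0 := fun j h => by
    rw [Sigma.ι_desc, dif_neg h]
  refine ⟨r, σ, π, hσ, hπ, ?_⟩
  have key : ∀ w : Fin e → R, stalkLin π η (c w) =
      Fintype.linearCombination R (stdGerm r η) (fun i => w (σ i)) := fun w => by
    show stalkLin π η (Fintype.linearCombination R (stdGerm e η) w) = _
    rw [Fintype.linearCombination_apply, Fintype.linearCombination_apply, map_sum]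
    rw [← Finset.sum_subset (s₁ := Finset.univ.image σ) (Finset.subset_univ _)]
    · rw [Finset.sum_image hσ.injOn]
      refine Finset.sum_congr rfl fun i _ => ?_
      rw [map_smul, stalkLin_stdGerm_sigma, hπ]
      rfl
    · intro j _ hj
      rw [map_smul, stalkLin_stdGerm_sigma, hπ0 j fun ⟨i, hi⟩ => hj (Finset.mem_image.2 ⟨i, Finset.mem_univ _, hi⟩),
        TFOneLib.stalkLin_zero, LinearMap.zero_apply, smul_zero]
  have he : (stalkLin (f ≫ π) η : _ → _) = (Fintype.linearCombination R (stdGerm r η)) ∘
      (fun (w : LinearMap.range fη) (i : Fin r) => (w : Fin e → R) (σ i)) ∘ fη.rangeRestrict := by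
    funext z
    rw [stalkLin_comp, LinearMap.comp_apply, Function.comp_apply, Function.comp_apply]
    refine Eq.trans ?_ (key (fη z))
    exact congrArg _ (c.apply_symm_apply _).symm
  rw [he]
  exact (stdGerm_bijective r η).comp (hb.comp ⟨fun a b h => hfη (congrArg Subtype.val h), fη.surjective_rangeRestrict⟩)

theorem hom_eq_zero_of_generic [IsIntegral X] [IsLocallyNoetherian X] {M N : X.Modules} [Coh.IsQCoh N] (hN : TorSh.IsTorsionFree N)
    (f : M ⟶ N) (h : stalkLin f (genericPoint X) = 0) : f = 0 :=
  TFOneLib.hom_eq_zero hN f fun z hz => by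
    obtain rfl : genericPoint X = z := hz _ (genericPoint_specializes z)
    exact h

theorem mono_of_generic [IsIntegral X] [IsLocallyNoetherian X] {M N : X.Modules} [Coh.IsQCoh M] (hM : TorSh.IsTorsionFree M)
    (f : M ⟶ N) (h : Function.Injective (stalkLin f (genericPoint X))) : Mono f := by
  refine Preadditive.mono_of_kernel_zero (hom_eq_zero_of_generic hM _ (LinearMap.ext fun z => h ?_))
  rw [LinearMap.zero_apply, map_zero, ← LinearMap.comp_apply, ← stalkLin_comp, kernel.condition,
    TFOneLib.stalkLin_zero, LinearMap.zero_apply]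

theorem isTF_of_isTorsionFree [IsIntegral X] [IsLocallyNoetherian X] {M : X.Modules} [Coh.IsQCoh M] (h : TorSh.IsTorsionFree M) :
    DevLib.IsTF (genericPoint X) M := fun V s hs => by
  refine TFOneLib.eq_zero_of_maxPt h s fun z hz hmax => ?_
  obtain rfl : genericPoint X = z := hmax _ (genericPoint_specializes z)
  exact hs hz

theorem mem_support_coker_iff {M N : X.Modules} (g : M ⟶ N) (x : X) :
    x ∉ CohB1.support (cokernel g) → Function.Surjective (stalkLin g x) := by
  intro hx z
  haveI : Subsingleton ((cokernel g).presheaf.stalk x) := not_not.1 hx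
  let S : ShortComplex X.Modules := ShortComplex.mk g (cokernel.π g) (cokernel.condition g)
  have hS : S.Exact := ShortComplex.exact_of_g_is_cokernel _ (cokernelIsCokernel g)
  exact (SyzLib.exact_stalkLin' S hS x z).1 (Subsingleton.elim _ _)

/-- Maps to the structure sheaf extend along a monomorphism into a free module whose cokernel is
supported in codimension two. -/
theorem exists_extend [IsIntegral X] [IsLocallyNoetherian X] (hX : Pi1.IsNormalScheme X)
    (hO : RefHull.IsReflexive (Coh.structureModule X)) {G : X.Modules} {r : ℕ} (g : G ⟶ FlatMod.freeMod X r)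
    [Mono g] (hcl : IsClosed (CohB1.support (cokernel g))) (hη : genericPoint X ∉ CohB1.support (cokernel g))
    (hd : ∀ x ∈ CohB1.support (cokernel g), (2 : WithBot ℕ∞) ≤ ringKrullDim (X.presheaf.stalk x))
    (p : G ⟶ Coh.structureModule X) : ∃ ψ : FlatMod.freeMod X r ⟶ Coh.structureModule X, g ≫ ψ = p := by
  let U : X.Opens := ⟨(CohB1.support (cokernel g))ᶜ, hcl.isOpen_compl⟩
  have hgU : Function.Bijective (g.app U) := ZClosLib.app_bijective_of_stalk g U fun x hx =>
    ⟨(PullbackMod.mono_iff_stalk g).1 inferInstance x, mem_support_coker_iff g x hx⟩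
  let F₀ := FlatMod.freeMod X r
  let s : Fin r → Γ(F₀, ⊤) := fun i =>
    (Sigma.ι (fun _ : Fin r => Coh.structureModule X) i).app ⊤ (1 : Γ(X, ⊤))
  choose m hm using fun i => hgU.2 (F₀.presheaf.map (homOfLE (le_top : U ≤ ⊤)).op (s i))
  choose t ht using fun i => (NormalRefLib.bijective_res hX (DevLib.isCoh_structureModule X) hO ⊤ U le_top
    (fun x _ hx => hd x (not_not.1 hx))).2 (p.app U (m i))
  have hηU : genericPoint X ∈ U := hη
  refine ⟨descS t, sub_eq_zero.1 (hom_eq_zero_of_generic
    (TFCurvSSLib.isTorsionFree_flf (CurveLib.isFinLocFreeOfRank_one ParaFLib.isInvertible_structureModule)) _ ?_)⟩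
  have hgη : Function.Surjective (stalkLin g (genericPoint X)) := mem_support_coker_iff g _ hη
  refine LinearMap.ext fun z => ?_
  have hsub : stalkLin (g ≫ descS t - p) (genericPoint X) =
      stalkLin (g ≫ descS t) (genericPoint X) - stalkLin p (genericPoint X) := by
    refine eq_sub_of_add_eq ?_
    rw [← DevLib.stalkLin_add, sub_add_cancel]
  rw [hsub, LinearMap.sub_apply, LinearMap.zero_apply, sub_eq_zero, stalkLin_comp, LinearMap.comp_apply]
  have hgm : ∀ i, stalkLin g (genericPoint X) (G.presheaf.germ U _ hηU (m i)) = stdGerm r _ i := fun i => by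
    rw [stalkLin_germ, hm i, TopCat.Presheaf.germ_res_apply, stdGerm, ParaFLib.oneG, stalkLin_germ]
  obtain ⟨a, ha⟩ := (stdGerm_bijective r (genericPoint X)).2 (stalkLin g (genericPoint X) z)
  rw [Fintype.linearCombination_apply] at ha
  have hz : z = ∑ i, a i • G.presheaf.germ U _ hηU (m i) :=
    (PullbackMod.mono_iff_stalk g).1 inferInstance (genericPoint X) (by
      rw [map_sum, ← ha]
      exact Finset.sum_congr rfl fun i _ => by rw [map_smul, hgm])
  rw [hz, map_sum, map_sum, map_sum]
  refine Finset.sum_congr rfl fun i _ => ?_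
  rw [map_smul, map_smul, map_smul, hgm, descS_stdGerm, stalkLin_germ, ← ht i, TopCat.Presheaf.germ_res_apply]

/-- A map out of the structure sheaf into the direct image of a torsion-free module on an integral closed
subscheme vanishes when its germ at the generic point does. -/
theorem hom_eq_zero_of_push {C : Scheme.{u}} [IsIntegral C] [IsLocallyNoetherian C] (i : C ⟶ X) [IsClosedImmersion i] {A : C.Modules}
    [Coh.IsQCoh A] (hA : TorSh.IsTorsionFree A) (φ : Coh.structureModule X ⟶ (Coh.push i).obj A)
    (h : stalkLin φ (i (genericPoint C)) = 0) : φ = 0 := by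
  let s : Γ((Coh.push i).obj A, ⊤) := φ.app ⊤ (1 : Γ(X, ⊤))
  have hs : ((Coh.push i).obj A).presheaf.germ ⊤ (i (genericPoint C)) trivial s = 0 := by
    have h' := LinearMap.congr_fun h (ParaFLib.oneG (i (genericPoint C)))
    rwa [ParaFLib.oneG, stalkLin_germ, LinearMap.zero_apply] at h'
  have hs0 : s = 0 := by
    refine TFCurvSSLib.eq_zero_of_germ_generic (U := i ⁻¹ᵁ (⊤ : X.Opens)) hA trivial s ?_
    rw [← DCohLib.pushStalk_germ i A (genericPoint C) (W := ⊤) trivial s]
    exact (congrArg _ hs).trans (map_zero _)
  refine hom_ext_stalk fun x => LinearMap.ext fun z => ?_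
  obtain ⟨a, rfl⟩ := (ParaFLib.bijective_oneG x).2 z
  rw [TFOneLib.stalkLin_zero, LinearMap.zero_apply, map_smul, ParaFLib.oneG, stalkLin_germ]
  rw [show φ.app ⊤ (1 : Γ(X, ⊤)) = s from rfl, hs0, map_zero, smul_zero]

end Groth.Agent.LazMuk
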