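import Groth.Agent.LazMukLib.Basic
import Groth.Agent.TwistShriek.NumBase
import Groth.Agent.TwistShriek.SurfSections
import Groth.Agent.IntLib.Decomp
import Groth.Agent.DegDevLib.Dim
import Groth.Agent.ShStabLib.Core
import Groth.Agent.NakaiLib.Hodge

/-!
# Degrees of one-dimensional modules on a surface whose Picard group is generated by a curve
-/

set_option autoImplicit false
set_option backward.isDefEq.respectTransparency false
set_option linter.style.haveILetI false
set_option maxHeartbeats 1000000
set_option synthInstance.maxHeartbeats 200000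

universe u

open CategoryTheory CategoryTheory.Limits AlgebraicGeometry TopologicalSpace Polynomial
open Groth.Agent.DCohLib Groth.Agent.Nakai StabCat
open Groth.Agent.IntLib (PicRing pairing dif inv')

noncomputable section

namespace Groth.Agent.LazMuk

variable (k : Type u) [Field k] {X : Scheme.{u}} [X.Over (Spec (CommRingCat.of k))]
  [IsProper (X ↘ Spec (CommRingCat.of k))]

/-- A lower bound for the degree of a module with one-dimensional support. -/
theorem le_pairing_of_curves {L : X.Modules} (hL : CohB1.IsAmple L) (δ : ℤ)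
    (hcurve : ∀ J : X.IdealSheafData, IsIntegral J.subscheme → topologicalKrullDim (J.support : Set X) = 1 →
      δ ≤ pairing k (ClSub.quotMod J) (cl hL.1))
    {Q : X.Modules} (hQ : Coh.IsCoh Q) (hd : topologicalKrullDim (CohB1.support Q) ≤ ((1 : ℕ) : WithBot ℕ∞))
    (hne : ¬ topologicalKrullDim (CohB1.support Q) < ((1 : ℕ) : WithBot ℕ∞)) :
    δ ≤ pairing k Q (cl hL.1) := by
  classical
  haveI := EulerIneqLib.isNoetherian_proper (X := X) k
  have hcl := DevLib.isClosed_support hQ
  have hfin := DegDevLib.finite_top_points hcl hd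
  obtain ⟨hlen, hsum⟩ := IntLib.pairing_decomp k (r := 1) (fun _ => L) (fun _ => hL.1) hQ hd hfin.toFinset
    (fun ξ => by simp)
  rw [Fin.prod_univ_one] at hsum
  have hsum' : pairing k Q (cl hL.1) = ∑ ξ ∈ hfin.toFinset,
      ((Module.length (X.presheaf.stalk ξ) (Q.presheaf.stalk ξ)).toNat : ℤ) *
        pairing k (IntLib.compMod ξ) (cl hL.1) := by
    rw [cl_eq_neg_dif, map_neg, hsum, ← Finset.sum_neg_distrib]
    exact Finset.sum_congr rfl fun ξ _ => by rw [map_neg, mul_neg]
  have hterm : ∀ ξ ∈ hfin.toFinset, 0 ≤ pairing k (IntLib.compMod ξ) (cl hL.1) := fun ξ hξ => by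
    have h := ((isPos_cl_pow k hL 1) _ (IntLib.isPiece_compMod ξ).coh (lt_of_le_of_lt
      (Topology.IsEmbedding.inclusion (show CohB1.support (IntLib.compMod ξ) ⊆ closure {ξ} from fun y hy => by
        have := IntLib.support_quotMod_subset _ hy
        rwa [Scheme.IdealSheafData.coe_support_vanishingIdeal] at this)).isInducing.topologicalKrullDim_le
      (by rw [(hfin.mem_toFinset.1 hξ).2]; exact_mod_cast Nat.lt_succ_self 1))).1
    rwa [pow_one] at h
  obtain ⟨p, hp, hp'⟩ := (HilbLib.not_dim_lt_iff hcl 1).1 hne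
  set ξ := p 1 with hξ
  have hsub : closure ({ξ} : Set X) ⊆ CohB1.support Q := hcl.closure_subset_iff.2 (Set.singleton_subset_iff.2 (hp 1))
  have hdξ : topologicalKrullDim (closure ({ξ} : Set X)) = ((1 : ℕ) : WithBot ℕ∞) :=
    le_antisymm ((Topology.IsEmbedding.inclusion hsub).isInducing.topologicalKrullDim_le.trans hd)
      (not_lt.1 ((HilbLib.not_dim_lt_iff isClosed_closure 1).2 ⟨p, fun i => by
        fin_cases i
        · exact (hp' 0 1 (by decide)).1.mem_closure
        · exact subset_closure rfl, hp'⟩))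
  have hmem : ξ ∈ hfin.toFinset := hfin.mem_toFinset.2 ⟨hp 1, hdξ⟩
  let J := Scheme.IdealSheafData.vanishingIdeal (⟨closure {ξ}, isClosed_closure⟩ : Closeds X)
  have hJ : δ ≤ pairing k (IntLib.compMod ξ) (cl hL.1) :=
    hcurve J (CurveLib.isIntegral_vanishingIdeal isClosed_closure isIrreducible_singleton.closure)
      (by rw [Scheme.IdealSheafData.coe_support_vanishingIdeal]; exact hdξ.trans Nat.cast_one)
  have hone : (1 : ℤ) ≤ ((Module.length (X.presheaf.stalk ξ) (Q.presheaf.stalk ξ)).toNat : ℤ) := by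
    haveI : Nontrivial (Q.presheaf.stalk ξ) := not_subsingleton_iff_nontrivial.1 (hp 1)
    have h0 : Module.length (X.presheaf.stalk ξ) (Q.presheaf.stalk ξ) ≠ 0 := Module.length_pos.ne'
    have h1 : (Module.length (X.presheaf.stalk ξ) (Q.presheaf.stalk ξ)).toNat ≠ 0 := by
      rw [Ne, ENat.toNat_eq_zero]
      exact not_or.2 ⟨h0, hlen ξ hmem⟩
    omega
  rw [hsum']
  refine le_trans ?_ (Finset.single_le_sum (fun x hx => mul_nonneg (by positivity) (hterm x hx)) hmem)
  exact hJ.trans (le_mul_of_one_le_left (hterm ξ hmem) hone)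

section Pic

variable [IsIntegral X] [Smooth (X ↘ Spec (CommRingCat.of k))] [PicGrp.Law X]

/-- If the classes of invertible modules are powers of the class of `I`, every integral curve has degree
at least the degree `form (L, L)` of `I⁻¹ = L`. -/
theorem le_pairing_curve (hdim : topologicalKrullDim X = 2) {L I : X.Modules} (hI : PicF.IsInvertible I)
    (hL : CohB1.IsAmple L) (θ : CohB1.tensorMod L I ≅ Coh.structureModule X)
    (hgen : ∀ c : PicLoc.PicSet X, ∃ n : ℤ, c = PicGrp.cls I hI ^ n)
    (J : X.IdealSheafData) (hJi : IsIntegral J.subscheme) (hJd : topologicalKrullDim (J.support : Set X) = 1) :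
    form k (cl hL.1) (cl hL.1) ≤ pairing k (ClSub.quotMod J) (cl hL.1) := by
  haveI := EulerIneqLib.isNoetherian_proper (X := X) k
  have hJ := TwistShriek.invertible_curve k hdim J hJi hJd
  set δ := form k (cl hL.1) (cl hL.1) with hδ
  have hδpos : 0 < δ := form_ample_pos k hdim hL
  have hIL : form k (cl hI) (cl hL.1) = -δ := by
    have := TwistShriek.form_inverse k hdim hL.1 hI θ (cl_mem hL.1)
    rw [hδ, this, neg_neg]
  have hpow : ∀ {M : X.Modules} (hM : PicF.IsInvertible M) (n : ℕ),
      form k (cl (AmpleLib.isInvertible_tensorPow hM n)) (cl hL.1) = n * form k (cl hM) (cl hL.1) := fun hM n => by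
    have h := form_congr k hdim (u := cl (AmpleLib.isInvertible_tensorPow hM n)) (w := ((n : ℤ) • cl hM))
      (by rw [zsmul_eq_mul, Int.cast_natCast]; exact cl_tensorPow_sub_mem hM n) (cl_mem hL.1)
    rw [h, form_smul_left]
  have hpos : 0 < pairing k (ClSub.quotMod J) (cl hL.1) := by
    have hs : CohB1.support (ClSub.quotMod J) = (J.support : Set X) := by
      refine Set.Subset.antisymm (IntLib.support_quotMod_subset J) fun y hy => ?_
      rw [← Scheme.IdealSheafData.range_subschemeι] at hy
      obtain ⟨z, rfl⟩ := hy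
      intro h
      haveI : Subsingleton ((ClSub.quotMod J).presheaf.stalk (J.subschemeι z)) := h
      haveI : Nontrivial ((Coh.structureModule J.subscheme).presheaf.stalk z) :=
        (ParaFLib.bijective_oneG z).1.nontrivial
      exact not_subsingleton ((Coh.structureModule J.subscheme).presheaf.stalk z)
        (Function.Surjective.subsingleton (f := DCohLib.pushStalk J.subschemeι (Coh.structureModule J.subscheme) z)
          (DCohLib.bijective_pushStalk _ _ z).2)
    have h := (isPos_cl_pow k hL 1 _ (IntLib.isCoh_quotMod J) (by rw [hs, hJd]; exact_mod_cast Nat.lt_succ_self 1)).2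
      ((HilbLib.not_dim_lt_iff (hs ▸ J.support.isClosed) 1).1 (by
        rw [hs, hJd]
        exact not_lt.2 (le_of_eq Nat.cast_one)))
    rwa [pow_one] at h
  rw [TwistShriek.pairing_quotMod_cl k hJ] at hpos ⊢
  obtain ⟨n, hn⟩ := hgen (PicGrp.cls _ hJ)
  obtain ⟨m, rfl | rfl⟩ := Int.eq_nat_or_neg n
  · have e : PicGrp.cls _ hJ = PicGrp.cls (CohB1.tensorPow I m) (AmpleLib.isInvertible_tensorPow hI m) := by
      rw [hn, zpow_natCast]
      exact Subtype.ext (PicGrp.cls_pow_val hI m)
    obtain ⟨a⟩ := (PicGrp.cls_eq_cls_iff _ _).1 e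
    rw [cl_congr hJ (AmpleLib.isInvertible_tensorPow hI m) a, hpow hI m, hIL, mul_neg, neg_neg] at hpos ⊢
    have hm : (1 : ℤ) ≤ m := by
      rcases Nat.eq_zero_or_pos m with h0 | h0
      · subst h0; simp at hpos
      · exact_mod_cast h0
    exact le_mul_of_one_le_left hδpos.le hm
  · have e : PicGrp.cls _ hJ = PicGrp.cls (CohB1.tensorPow L m) (AmpleLib.isInvertible_tensorPow hL.1 m) := by
      rw [hn, zpow_neg, zpow_natCast, ← inv_pow, PicGrp.cls_inv_eq_cls hI hL.1 ⟨AmpleLib.comm I L ≪≫ θ⟩]
      exact Subtype.ext (PicGrp.cls_pow_val hL.1 m)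
    obtain ⟨a⟩ := (PicGrp.cls_eq_cls_iff _ _).1 e
    rw [cl_congr hJ (AmpleLib.isInvertible_tensorPow hL.1 m) a, hpow hL.1 m] at hpos
    nlinarith

end Pic

/-- The degree of an invertible module on an integral curve equals that of the structure module. -/
theorem pairing_push_invertible {C : Scheme.{u}} [C.Over (Spec (CommRingCat.of k))] [IsIntegral C]
    (hC : topologicalKrullDim C = 1) (i : C ⟶ X) [IsClosedImmersion i]
    (hi : i ≫ (X ↘ Spec (CommRingCat.of k)) = C ↘ Spec (CommRingCat.of k))
    {A : C.Modules} (hA : PicF.IsInvertible A) {L : X.Modules} (hL : PicF.IsInvertible L) :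
    pairing k ((Coh.push i).obj A) (cl hL) = pairing k (ClSub.quotMod i.ker) (cl hL) := by
  haveI := EulerIneqLib.isNoetherian_proper (X := X) k
  haveI : IsProper (C ↘ Spec (CommRingCat.of k)) := by rw [← hi]; infer_instance
  haveI := EulerIneqLib.isNoetherian_proper (X := C) k
  have key : ∀ {B : C.Modules}, PicF.IsInvertible B → pairing k ((Coh.push i).obj B) (cl hL) =
      Curv2.deg k C ((Scheme.Modules.pullback i).obj L) 1 := fun {B} hB => by
    have hBc : Coh.IsCoh B := CurveLib.isCoh_of_isInvertible hB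
    haveI := hBc.1
    rw [cl_eq_neg_dif, map_neg, IntLib.pairing_dif k _ hL,
      show Curv2.euler k X ((Coh.push i).obj B) = _ from IntLib.euler_push k i hi B,
      show Curv2.euler k X (CohB1.tensorMod ((Coh.push i).obj B) L) = _ from IntLib.euler_push_tensor k hi hBc hL,
      show Curv2.euler k C (CohB1.tensorMod B ((Scheme.Modules.pullback i).obj L)) = _ from
        CurveLib.euler_tensor_invertible (k := k) hC.le (CurveLib.isFinLocFreeOfRank_one hB)
          (AmpleLib.isInvertible_pullback i hL)]
    push_cast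
    ring
  obtain ⟨q⟩ := TwistShriek.nonempty_quotMod_ker_iso i
  rw [key hA, IntLib.pairing_iso k q]
  exact (key ParaFLib.isInvertible_structureModule).symm

/-- Hilbert polynomials of modules of dimension at most one, in degrees two and one. -/
theorem alpha_of_dimLE_one {L : X.Modules} (hL : CohB1.IsAmple L) {Q : X.Modules} (hQ : Coh.IsCoh Q)
    (hd : ShStabLib.DimLE 1 Q) {P : ℚ[X]} (hP : ShStabLib.HP k L Q P) :
    alpha 2 P = 0 ∧ alpha 1 P = (pairing k Q (cl hL.1) : ℚ) := by
  haveI := EulerIneqLib.isNoetherian_proper (X := X) k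
  refine ⟨ShStabLib.alpha_eq_zero k hL hQ hd hP, ?_⟩
  have h := pairing_cl_pow_eq_coeff k hQ hL.1 (d := 1) (ShStabLib.le_of_lt_natCast_add_one _ 1 hd) P
    (ShStabLib.degree_lt k hL hQ hd hP) hP
  rw [pow_one] at h
  rw [alpha, h]

/-- Hilbert polynomials of free modules. -/
theorem hp_free {L : X.Modules} (hL : PicF.IsInvertible L) (n : ℕ) {d : ℕ}
    (hd : topologicalKrullDim X ≤ (d : WithBot ℕ∞)) {P : ℚ[X]} (hP : ShStabLib.HP k L (Coh.structureModule X) P) :
    ShStabLib.HP k L (FlatMod.freeMod X n) ((n : ℚ) • P) := fun m => by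
  haveI := EulerIneqLib.isNoetherian_proper (X := X) k
  let G := CohB1.tensorPow L m
  have hG : Coh.IsCoh G := CurveLib.isCoh_of_isInvertible (AmpleLib.isInvertible_tensorPow hL m)
  let Φ := (DCoh.tensorBi (X := X)).flip.obj G
  haveI : PreservesFiniteColimits Φ := ModTensor.preservesFiniteColimits_tensorBi_flip X.sheaf G
  let u : tmod (FlatMod.freeMod X n) G ≅ ∐ fun _ : Fin n => tmod (Coh.structureModule X) G :=
    PreservesCoproduct.iso Φ fun _ : Fin n => Coh.structureModule X
  have hOG : Coh.IsCoh (tmod (Coh.structureModule X) G) :=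
    CurveLib.isCoh_tmod (DevLib.isCoh_structureModule X) hG
  show (Curv2.euler k X (tmod (FlatMod.freeMod X n) G) : ℚ) = _
  rw [CurveLib.euler_iso (K := k) u, euler_sigma_const k n hOG hd, Polynomial.eval_smul, smul_eq_mul, ← hP m]
  push_cast
  rfl

end Groth.Agent.LazMuk
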