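import Groth.Agent.LazMukLib.Free
import Groth.Agent.LazMukLib.Num
import Groth.Agent.ASBunKS.RankOne

/-!
# Stability of Lazarsfeld–Mukai bundles when the Picard group is generated by the curve
-/

set_option autoImplicit false
set_option backward.isDefEq.respectTransparency false
set_option linter.style.haveILetI false
set_option maxHeartbeats 1000000
set_option synthInstance.maxHeartbeats 200000

universe u

open CategoryTheory CategoryTheory.Limits AlgebraicGeometry TopologicalSpace Polynomial
open Groth.Agent.PullbackMod Groth.Agent.DCohLib Groth.Agent.Nakai Groth.Agent.DegDevLib StabCat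
open Groth.Agent.IntLib (PicRing pairing dif inv')

noncomputable section

namespace Groth.Agent.LazMuk

theorem subsingleton_stalk_cokernel {X : Scheme.{u}} {M N : X.Modules} (g : M ⟶ N) (x : X)
    (h : Function.Surjective (stalkLin g x)) : Subsingleton ((cokernel g).presheaf.stalk x) := by
  refine subsingleton_of_forall_eq 0 fun z => ?_
  obtain ⟨y, rfl⟩ := (PullbackMod.epi_iff_stalk (cokernel.π g)).1 inferInstance x z
  obtain ⟨w, rfl⟩ := h y
  rw [← LinearMap.comp_apply, ← stalkLin_comp, cokernel.condition, TFOneLib.stalkLin_zero, LinearMap.zero_apply]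

theorem alpha_smul' (d : ℕ) (c : ℚ) (P : ℚ[X]) : alpha d (c • P) = c * alpha d P := by
  rw [alpha, alpha, Polynomial.coeff_smul, smul_eq_mul]
  ring

variable (k : Type u) [Field k] [IsAlgClosed k] {X : Scheme.{u}} [X.Over (Spec (CommRingCat.of k))] [IsIntegral X]
  [Smooth (X ↘ Spec (CommRingCat.of k))] [IsProper (X ↘ Spec (CommRingCat.of k))] [PicGrp.Law X]

theorem isMuStable_kernel (hdim : topologicalKrullDim X = 2) {C : Scheme.{u}} [C.Over (Spec (CommRingCat.of k))]
    [IsIntegral C] (hC : topologicalKrullDim C = 1) (i : C ⟶ X) [IsClosedImmersion i]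
    (hi : i ≫ (X ↘ Spec (CommRingCat.of k)) = C ↘ Spec (CommRingCat.of k))
    (hI : PicF.IsInvertible (ClSub.idealMod i.ker))
    (hgen : ∀ c : PicLoc.PicSet X, ∃ n : ℤ, c = PicGrp.cls (ClSub.idealMod i.ker) hI ^ n)
    {L : X.Modules} (θ : CohB1.tensorMod L (ClSub.idealMod i.ker) ≅ Coh.structureModule X)
    (hL : CohB1.IsAmple L)
    {A : C.Modules} (hA : PicF.IsInvertible A) {e : ℕ} (lam : FlatMod.freeMod X e ⟶ (Coh.push i).obj A) [Epi lam]
    (hlam : Function.Injective (CurveLib.hMap (k := k) lam 0)) :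
    Coh.IsCoh (kernel lam) ∧ TorSh.IsTorsionFree (kernel lam) ∧
      ShStab.IsMuStable k X L (kernel lam) 2 := by
  classical
  haveI := EulerIneqLib.isNoetherian_proper (X := X) k
  haveI : IsProper (C ↘ Spec (CommRingCat.of k)) := by rw [← hi]; infer_instance
  haveI := EulerIneqLib.isNoetherian_proper (X := C) k
  let η := genericPoint X
  let γ := i (genericPoint C)
  let O := Coh.structureModule X
  have hO : Coh.IsCoh O := DevLib.isCoh_structureModule X
  have hAc : Coh.IsCoh A := CurveLib.isCoh_of_isInvertible hA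
  haveI := hAc.1
  have hAtf : TorSh.IsTorsionFree A := TFCurvSSLib.isTorsionFree_flf (CurveLib.isFinLocFreeOfRank_one hA)
  have hfree := DegDevLib.isFinLocFreeOfRank_freeMod (X := X) e
  have hEc : Coh.IsCoh (FlatMod.freeMod X e) := CurveLib.isCoh_of_isFinLocFree (VBLib.DualDeg.flf_of_rank hfree)
  have hpc : Coh.IsCoh ((Coh.push i).obj A) := DevLib.isCoh_pushforward_closed i hAc
  have hFc : Coh.IsCoh (kernel lam) := (QCohLib.isCoh_kernel_cokernel lam hEc hpc).1
  haveI := hFc.1
  have hEtf : TorSh.IsTorsionFree (FlatMod.freeMod X e) := TFCurvSSLib.isTorsionFree_flf hfree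
  have hFtf : TorSh.IsTorsionFree (kernel lam) := TFCurvSSLib.torsionFree_of_mono (kernel.ι lam) hEtf
  refine ⟨hFc, hFtf, ?_⟩
  -- the curve does not contain the generic point
  have hnt : ∀ (B : C.Modules), PicF.IsInvertible B → Nontrivial (((Coh.push i).obj B).presheaf.stalk γ) := fun B hB => by
    obtain ⟨b, hb⟩ := ParaFLib.exists_stalk_gen hB (genericPoint C)
    haveI : Nontrivial (B.presheaf.stalk (genericPoint C)) := hb.1.nontrivial
    exact (DCohLib.bijective_pushStalk i B (genericPoint C)).2.nontrivial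
  have hηC : η ∉ Set.range i := by
    intro hm
    have hu : Set.range i = Set.univ := Set.eq_univ_iff_forall.2 fun y =>
      (genericPoint_specializes y).mem_closed i.isClosedEmbedding.isClosed_range hm
    have h := (i.isEmbedding.toHomeomorph.isHomeomorph).topologicalKrullDim_eq
    rw [hC, hu, (Homeomorph.Set.univ X).isHomeomorph.topologicalKrullDim_eq, hdim] at h
    exact absurd h (by norm_num)
  let S : ShortComplex X.Modules := ShortComplex.mk (kernel.ι lam) lam (kernel.condition lam)
  have hS : S.ShortExact := ShortComplex.ShortExact.mk' (ShortComplex.exact_of_f_is_kernel _ (kernelIsKernel lam))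
    (inferInstanceAs (Mono (kernel.ι lam))) (inferInstanceAs (Epi lam))
  have he : e ≠ 0 := by
    rintro rfl
    haveI := hnt A hA
    refine not_subsingleton (((Coh.push i).obj A).presheaf.stalk γ) ?_
    haveI : Subsingleton ((FlatMod.freeMod X 0).presheaf.stalk γ) :=
      (stdGerm_bijective 0 γ).2.subsingleton
    exact ((PullbackMod.epi_iff_stalk lam).1 inferInstance γ).subsingleton
  have hsurjη : Function.Surjective (stalkLin (kernel.ι lam) η) := fun y => by
    haveI : Subsingleton (((Coh.push i).obj A).presheaf.stalk η) :=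
      DCohLib.subsingleton_stalk_pushforward i A η hηC
    exact (SyzLib.exact_stalkLin' S hS.exact η y).1 (Subsingleton.elim _ _)
  have hηF : η ∈ CohB1.support (kernel lam) := fun hs => by
    haveI : Subsingleton ((kernel lam).presheaf.stalk η) := hs
    haveI := hsurjη.subsingleton
    have h := (stdGerm_bijective (X := X) e η).1 (a₁ := fun _ => 1) (a₂ := 0) (Subsingleton.elim _ _)
    have := congrFun h ⟨0, Nat.pos_of_ne_zero he⟩
    exact one_ne_zero this
  have hF0 : ¬ IsZero (kernel lam) := fun h =>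
    (Set.eq_empty_iff_forall_notMem.1 (HilbLib.support_eq_empty_of_isZero h) η) hηF
  have hpure : ShStab.IsPure X (kernel lam) 2 :=
    MuSimpleLib.isPure_of_isTF (n := 2) (by exact_mod_cast hdim) (isTF_of_isTorsionFree hFtf)
  refine ⟨hFc, hF0, hpure _ (𝟙 _) inferInstance hFc hF0, ?_, ?_⟩
  · intro F' ι' hι' hF'
    haveI := hι'
    by_cases h0 : IsZero F'
    · rw [HilbLib.support_eq_empty_of_isZero h0]
      haveI : IsEmpty (IrreducibleCloseds (∅ : Set X)) := ⟨fun c => by
        obtain ⟨z, -⟩ := c.isIrreducible.nonempty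
        exact z.2⟩
      rw [topologicalKrullDim, Order.krullDim_eq_bot, WithBot.bot_add]
      exact WithBot.bot_ne_coe
    · rw [hpure F' ι' hι' hF' h0]
      exact_mod_cast (by omega : (2 : ℕ) + 1 ≠ 2)
  intro G κ hκ hG pG pF hpG hpF hposG hltG
  haveI := hκ
  haveI := hG.1
  -- Hilbert polynomials
  have hdimle : ∀ M : X.Modules, ShStabLib.DimLE 2 M := fun M =>
    lt_of_le_of_lt (Topology.IsInducing.subtypeVal.topologicalKrullDim_le.trans hdim.le) (by exact_mod_cast Nat.lt_succ_self 2)
  obtain ⟨P₀, -, hP₀⟩ := ShStabLib.exists_hp k hL hO (hdimle O)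
  have ha2 : 0 < alpha 2 P₀ := by
    refine ShStabLib.alpha_pos k hL hO (hdimle O) (fun h => ?_) hP₀
    rw [show CohB1.support O = Set.univ from Set.eq_univ_of_forall fun x =>
      haveI : Nontrivial (O.presheaf.stalk x) := (ParaFLib.bijective_oneG x).1.nontrivial
      not_subsingleton _, (Homeomorph.Set.univ X).isHomeomorph.topologicalKrullDim_eq, hdim] at h
    exact absurd h (by norm_num)
  set δ := form k (cl hL.1) (cl hL.1) with hδdef
  have hδ : 0 < δ := form_ample_pos k (by exact_mod_cast hdim) hL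
  have hquot : pairing k (ClSub.quotMod i.ker) (cl hL.1) = δ := by
    rw [TwistShriek.pairing_quotMod_cl k hI, hδdef, TwistShriek.form_inverse k hdim hL.1 hI θ (cl_mem hL.1)]
  have hpush : pairing k ((Coh.push i).obj A) (cl hL.1) = δ :=
    (pairing_push_invertible k hC i hi hA hL.1).trans hquot
  have hdA : ShStabLib.DimLE 1 ((Coh.push i).obj A) := by
    refine lt_of_le_of_lt (Topology.IsEmbedding.inclusion
      (IntLib.support_pushforward_subset i A)).isInducing.topologicalKrullDim_le ?_
    rw [← (i.isEmbedding.toHomeomorph.isHomeomorph).topologicalKrullDim_eq, hC]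
    exact_mod_cast Nat.lt_succ_self 1
  obtain ⟨pA, -, hpA⟩ := ShStabLib.exists_hp k hL hpc hdA
  obtain ⟨hA2, hA1⟩ := alpha_of_dimLE_one k hL hpc hdA hpA
  rw [hpush] at hA1
  have hpe := hp_free k hL.1 e (d := 2) (by exact_mod_cast hdim.le) hP₀
  have hsumF : (e : ℚ) • P₀ = pF + pA := ShStabLib.hp_add k hL hS hFc hEc hpc hpF hpe hpA
  -- the coordinate projection
  let f : G ⟶ FlatMod.freeMod X e := κ ≫ kernel.ι lam
  haveI : Mono f := inferInstanceAs (Mono (κ ≫ kernel.ι lam))
  have hGtf : TorSh.IsTorsionFree G := TFCurvSSLib.torsionFree_of_mono f hEtf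
  obtain ⟨r, σ, π, hσ, hπ, hb⟩ := exists_proj f ((PullbackMod.mono_iff_stalk f).1 inferInstance η)
  let g := f ≫ π
  haveI : Mono g := mono_of_generic hGtf g hb.1
  have hrc : Coh.IsCoh (FlatMod.freeMod X r) :=
    CurveLib.isCoh_of_isFinLocFree (VBLib.DualDeg.flf_of_rank (DegDevLib.isFinLocFreeOfRank_freeMod (X := X) r))
  obtain ⟨pQ, hpQ, hsumG, hQc, -⟩ := ShStabLib.exists_hp_coker k hL g hG hrc (hdimle _) hpG
    (hp_free k hL.1 r (d := 2) (by exact_mod_cast hdim.le) hP₀)
  have hηQ : η ∉ CohB1.support (cokernel g) := fun h => h (subsingleton_stalk_cokernel g η hb.2)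
  have hQcl := DevLib.isClosed_support hQc
  have hdQ : ShStabLib.DimLE 1 (cokernel g) := by
    refine HilbLib.dim_lt_of_notMem hQcl (ξ := η) (fun y _ => ?_) hηQ ?_
    · exact (genericPoint_specializes y).mem_closure
    · exact lt_of_le_of_lt (Topology.IsInducing.subtypeVal.topologicalKrullDim_le.trans hdim.le)
        (by exact_mod_cast Nat.lt_succ_self 2)
  obtain ⟨hQ2, hQ1⟩ := alpha_of_dimLE_one k hL hQc hdQ hpQ
  -- the quotient is one-dimensional
  have hq : δ ≤ pairing k (cokernel g) (cl hL.1) := by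
    refine le_pairing_of_curves k hL δ (fun J hJi hJd => le_pairing_curve k hdim hI hL θ hgen J hJi hJd) hQc
      (ShStabLib.le_of_lt_natCast_add_one _ 1 hdQ) fun hlt => ?_
    have hQ0 : topologicalKrullDim (CohB1.support (cokernel g)) ≤ 0 := by
      have := ShStabLib.le_of_lt_natCast_add_one _ 0 (by exact_mod_cast hlt)
      exact_mod_cast this
    have hclpt : ∀ x ∈ CohB1.support (cokernel g), IsClosed ({x} : Set X) := fun x hx => by
      rw [← CurveLib.closure_singleton_eq hQcl hQ0 hx]
      exact isClosed_closure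
    have hreg := fun x => ASp.isRegularLocalRing_stalk_of_smooth_field (X ↘ Spec (CommRingCat.of k)) x
    have hX := NormalRefLib.normal_of_regular (X := X) hreg
    have hcod : ∀ x ∈ CohB1.support (cokernel g), (2 : WithBot ℕ∞) ≤ ringKrullDim (X.presheaf.stalk x) :=
      fun x hx => by
      rw [TwistShriek.dim_closed_point_integral (n := 2) (X ↘ Spec (CommRingCat.of k)) (by exact_mod_cast hdim) x
        (hclpt x hx)]
      exact le_of_eq Nat.cast_ofNat.symm
    choose ψ hψ using fun j : Fin e => exists_extend hX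
      (ASBunKS.isReflexive_invertible ParaFLib.isInvertible_structureModule) g hQcl hηQ hcod
      (f ≫ Sigma.desc fun l => if l = j then 𝟙 O else 0)
    let Ψ : FlatMod.freeMod X r ⟶ FlatMod.freeMod X e := ∑ j, ψ j ≫ Sigma.ι (fun _ : Fin e => O) j
    have hgΨ : g ≫ Ψ = f := by
      have hid : ∑ j, (Sigma.desc fun l => if l = j then 𝟙 O else 0) ≫ Sigma.ι (fun _ : Fin e => O) j =
          𝟙 (FlatMod.freeMod X e) := Sigma.hom_ext _ _ fun l => by
        rw [Category.comp_id, Preadditive.comp_sum, Finset.sum_eq_single l]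
        · rw [← Category.assoc, Sigma.ι_desc, if_pos rfl, Category.id_comp]
        · intro j _ hj
          rw [← Category.assoc, Sigma.ι_desc, if_neg (Ne.symm hj), Limits.zero_comp]
        · exact fun h => absurd (Finset.mem_univ l) h
      rw [Preadditive.comp_sum]
      conv_rhs => rw [← Category.comp_id f, ← hid, Preadditive.comp_sum]
      exact Finset.sum_congr rfl fun j _ => by rw [← Category.assoc, hψ, Category.assoc]
    haveI : Coh.IsQCoh (FlatMod.freeMod X r) := hrc.1
    have hΨπ : Ψ ≫ π = 𝟙 _ := by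
      refine sub_eq_zero.1 (hom_eq_zero_of_generic (TFCurvSSLib.isTorsionFree_flf
        (DegDevLib.isFinLocFreeOfRank_freeMod (X := X) r)) _ (LinearMap.ext fun z => ?_))
      obtain ⟨w, rfl⟩ := hb.2 z
      rw [← LinearMap.comp_apply, ← stalkLin_comp, Preadditive.comp_sub, Category.comp_id,
        ← Category.assoc, hgΨ, sub_self, TFOneLib.stalkLin_zero]
      rfl
    have hγQ : γ ∉ CohB1.support (cokernel g) := fun h => by
      have hγc := hclpt γ h
      have hcl : IsClosed ({genericPoint C} : Set C) := by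
        have h1 := hγc.preimage i.continuous
        convert h1 using 1
        ext z
        exact ⟨fun hz => by rw [Set.mem_singleton_iff.1 hz]; rfl,
          fun hz => i.isEmbedding.injective (Set.mem_singleton_iff.1 hz)⟩
      have hu : ({genericPoint C} : Set C) = Set.univ :=
        (hcl.closure_eq.symm.trans (genericPoint_spec C).def)
      haveI : Subsingleton C := ⟨fun a b => by
        have ha : a ∈ ({genericPoint C} : Set C) := hu ▸ Set.mem_univ a
        have hb : b ∈ ({genericPoint C} : Set C) := hu ▸ Set.mem_univ b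
        exact (Set.mem_singleton_iff.1 ha).trans (Set.mem_singleton_iff.1 hb).symm⟩
      have h0 : topologicalKrullDim C ≤ 0 := topologicalKrullDim_zero_of_discreteTopology C
      rw [hC] at h0
      exact absurd h0 (by norm_num)
    have hr : 0 < r := Nat.pos_of_ne_zero fun h0 => by
      subst h0
      have h2 : alpha 2 pG = 0 := by
        have h := congrArg (alpha 2) hsumG
        rw [Nat.cast_zero, zero_smul, ShStabLib.alpha_add, hQ2, add_zero] at h
        rw [← h]
        simp [alpha]
      exact hposG.ne' h2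
    let j₀ : Fin r := ⟨0, hr⟩
    let ι₀ := Sigma.ι (fun _ : Fin r => O) j₀
    have hz : (ι₀ ≫ Ψ) ≫ lam = 0 := by
      refine hom_eq_zero_of_push i hAtf _ ?_
      have h1 : stalkLin (Ψ ≫ lam) γ = 0 := LinearMap.ext fun z => by
        obtain ⟨w, rfl⟩ := mem_support_coker_iff g γ hγQ z
        rw [← LinearMap.comp_apply, ← stalkLin_comp, ← Category.assoc, hgΨ, Category.assoc, kernel.condition,
          Limits.comp_zero, TFOneLib.stalkLin_zero]
        rfl
      rw [Category.assoc, stalkLin_comp, h1, LinearMap.zero_comp]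
    haveI : Nontrivial (Coh.HH X O 0) := Module.nontrivial_of_finrank_eq_succ (n := 0)
      (CurveLib.finrank_H0_structure (k := k))
    obtain ⟨x, hx⟩ := exists_ne (0 : Coh.HH X O 0)
    have h0 : CurveLib.hMap (k := k) (ι₀ ≫ Ψ) 0 x = 0 := hlam (by
      rw [← HorrocksPnLib.hMap_comp, hz, HorrocksPnLib.hMap_zero, map_zero])
    let p₀ : FlatMod.freeMod X r ⟶ O := Sigma.desc fun l => if l = j₀ then 𝟙 O else 0
    have hid : (ι₀ ≫ Ψ) ≫ (π ≫ p₀) = 𝟙 O := by
      rw [Category.assoc, ← Category.assoc Ψ, hΨπ, Category.id_comp, Sigma.ι_desc, if_pos rfl]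
    apply hx
    rw [← HorrocksPnLib.hMap_id k O 0 x, ← hid, HorrocksPnLib.hMap_comp, h0, map_zero]
  -- slopes
  have hF2 : alpha 2 pF = e * alpha 2 P₀ := by
    have h := congrArg (alpha 2) hsumF
    rw [alpha_smul', ShStabLib.alpha_add, hA2, add_zero] at h
    exact h.symm
  have hF1 : alpha 1 pF = e * alpha 1 P₀ - δ := by
    have h := congrArg (alpha 1) hsumF
    rw [alpha_smul', ShStabLib.alpha_add, hA1] at h
    linarith
  have hG2 : alpha 2 pG = r * alpha 2 P₀ := by
    have h := congrArg (alpha 2) hsumG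
    rw [alpha_smul', ShStabLib.alpha_add, hQ2, add_zero] at h
    exact h.symm
  have hG1 : alpha 1 pG = r * alpha 1 P₀ - pairing k (cokernel g) (cl hL.1) := by
    have h := congrArg (alpha 1) hsumG
    rw [alpha_smul', ShStabLib.alpha_add, hQ1] at h
    linarith
  rw [hG2] at hposG hltG
  rw [hF2] at hltG
  show alpha 1 pG / alpha 2 pG < alpha 1 pF / alpha 2 pF
  rw [div_lt_div_iff₀ (by rw [hG2]; exact hposG) (by rw [hF2]; linarith), hF1, hF2, hG1, hG2]
  have hre : (r : ℚ) < e := lt_of_mul_lt_mul_right hltG ha2.le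
  have hq' : (δ : ℚ) ≤ (pairing k (cokernel g) (cl hL.1) : ℤ) := by exact_mod_cast hq
  have hδ' : (0 : ℚ) < (δ : ℚ) := by exact_mod_cast hδ
  nlinarith [mul_lt_mul_of_pos_left hre hδ', mul_le_mul_of_nonneg_left hq' (Nat.cast_nonneg (α := ℚ) e), ha2]

end Groth.Agent.LazMuk
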