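import Groth.Agent.S15848
import Groth.Agent.TwistShriek.SurfCan
import Groth.Agent.TwistShriek.SurfCurve
import Groth.Agent.RatSingLib.Lift
import Groth.Agent.VBLib.DualOps
import Groth.Agent.DefExtLib.HomIso
import Groth.Agent.DegDevLib.Det
import Groth.Agent.FlagLib.Step
import Groth.Agent.KRRAmple.Basic
import Groth.Agent.CurveLib.DegTensor
import Groth.Agent.TFCurvSSLib.Push
import Groth.Agent.HorrocksPnLib.Core

/-!
# The Euler characteristic of the endomorphisms of a Lazarsfeld–Mukai bundle on a surface with trivial canonical module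
-/

set_option autoImplicit false
set_option backward.isDefEq.respectTransparency false
set_option linter.style.haveILetI false
set_option maxHeartbeats 1000000
set_option synthInstance.maxHeartbeats 200000

universe u

open CategoryTheory CategoryTheory.Limits AlgebraicGeometry TopologicalSpace
open Groth.Agent.DCohLib Groth.Agent.VBLib.DualDeg

noncomputable section

namespace Groth.Agent.LazMuk

local instance hasHF {X : Scheme.{u}} (M : X.Modules) : ModSite.HasSheafHom (O := X.sheaf) M :=
  ModTensor.hasSheafHom (O := X.sheaf) M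

section Sigma

variable (k : Type u) [Field k] {X : Scheme.{u}} [X.Over (Spec (CommRingCat.of k))]

/-- Cohomology commutes with finite sums. -/
theorem nonempty_HH_sigma {b : ℕ} (f : Fin b → X.Modules) (i : ℕ) :
    Nonempty (Coh.HH X (∐ f) i ≃ₗ[k] ((j : Fin b) → Coh.HH X (f j) i)) := by
  classical
  let p : ∀ j, (∐ f) ⟶ f j := fun j => Sigma.desc fun i => if e : i = j then eqToHom (congrArg f e) else 0
  have htot : ∑ j, p j ≫ Sigma.ι f j = 𝟙 _ := by
    refine Sigma.hom_ext _ _ fun i => ?_
    simp [p, Preadditive.comp_sum, dite_comp, Finset.sum_dite_eq]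
  have hd : ∀ j, Sigma.ι f j ≫ p j = 𝟙 _ := fun j => by simp [p]
  have ho : ∀ j l, l ≠ j → Sigma.ι f l ≫ p j = 0 := fun j l h => by simp [p, h]
  refine ⟨LinearEquiv.ofBijective (LinearMap.pi fun j => CurveLib.hMap (k := k) (p j) i) ⟨?_, fun v => ?_⟩⟩
  · rw [injective_iff_map_eq_zero]
    intro z hz
    rw [← HorrocksPnLib.hMap_id k _ i z, ← htot, HorrocksPnLib.hMap_sum]
    refine Finset.sum_eq_zero fun j _ => ?_
    rw [HorrocksPnLib.hMap_comp, show CurveLib.hMap (k := k) (p j) i z = 0 from congrFun hz j, map_zero]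
  · refine ⟨∑ l, CurveLib.hMap (k := k) (Sigma.ι f l) i (v l), funext fun j => ?_⟩
    rw [LinearMap.pi_apply, map_sum, Finset.sum_eq_single j, ← HorrocksPnLib.hMap_comp, hd, HorrocksPnLib.hMap_id]
    · intro l _ h
      rw [← HorrocksPnLib.hMap_comp, ho j l h, HorrocksPnLib.hMap_zero]
    · simp

theorem finrank_HH_sigma_const (b : ℕ) (M : X.Modules) (i : ℕ) [Module.Finite k (Coh.HH X M i)] :
    Module.finrank k (Coh.HH X (∐ fun _ : Fin b => M) i) = b * Module.finrank k (Coh.HH X M i) := by
  obtain ⟨e⟩ := nonempty_HH_sigma k (fun _ : Fin b => M) i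
  rw [e.finrank_eq, Module.finrank_pi_fintype]
  simp

variable [IsProper (X ↘ Spec (CommRingCat.of k))]

theorem euler_sigma_const (b : ℕ) {M : X.Modules} (hM : Coh.IsCoh M) {d : ℕ}
    (hd : topologicalKrullDim X ≤ (d : WithBot ℕ∞)) :
    Curv2.euler k X (∐ fun _ : Fin b => M) = b * Curv2.euler k X M := by
  haveI := EulerIneqLib.isNoetherian_proper (X := X) k
  have h := fun N : X.Modules => CurveLib.euler_eq_sum (K := k) N (d + 1) fun q hq =>
    CurveLib.subsingleton_HH_of_dim N hd (by omega)
  rw [h, h, Finset.mul_sum]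
  refine Finset.sum_congr rfl fun q _ => ?_
  haveI := EulerIneqLib.finite_HH (k := k) hM q
  rw [finrank_HH_sigma_const k b M q]
  push_cast
  ring

end Sigma

section Surface

variable (k : Type u) [Field k] {X : Scheme.{u}} [X.Over (Spec (CommRingCat.of k))]
  [IsProper (X ↘ Spec (CommRingCat.of k))] [IsIntegral X] [Smooth (X ↘ Spec (CommRingCat.of k))]

/-- Serre duality for locally free modules, when the canonical module is trivial. -/
theorem euler_dd (hdim : topologicalKrullDim X = 2) {H : X.Modules} (hH : CohB1.IsAmple H)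
    (hK : ExtPow.IsExtPow 2 (Omega.sheaf (X ↘ Spec (CommRingCat.of k))) (Coh.structureModule X))
    {P : X.Modules} (hP : FlatMod.IsFinLocFree P) : Curv2.euler k X (dd P) = Curv2.euler k X P := by
  haveI := EulerIneqLib.isNoetherian_proper (X := X) k
  obtain ⟨n, ι, hι0, hι⟩ := TwistShriek.exists_closedImmersion_of_ample (X ↘ Spec (CommRingCat.of k)) hH
  haveI := hι0
  haveI : SmoothOfRelativeDimension 2 (X ↘ Spec (CommRingCat.of k)) :=
    TwistShriek.smoothOfRelativeDimension_of_smooth (X ↘ Spec (CommRingCat.of k)) hdim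
  obtain ⟨t, ht⟩ := FundLocIsoLib.exists_trace_topForms ι hι hK
  have hcm := FundLocIsoLib.cm_closedPoint (n := 2) ι hι
  have hω := FundLocIsoLib.isCoh_topForms ι hι hK
  have hd := fun j hj => ProjSerreLib.finrank_hF_gen ι hω (ProjSerreLib.vanish_of_cm ι hcm) t hdim.le ht j hj P hP
  rw [CurveLib.euler_eq_sum (K := k) (dd P) 3 fun q hq => CurveLib.subsingleton_HH_of_dim (d := 2) _ hdim.le (by omega),
    CurveLib.euler_eq_sum (K := k) P 3 fun q hq => CurveLib.subsingleton_HH_of_dim (d := 2) _ hdim.le (by omega)]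
  simp only [Finset.sum_range_succ, Finset.sum_range_zero]
  rw [show Module.finrank k (Coh.HH X (dd P) 0) = _ from hd 0 (by omega),
    show Module.finrank k (Coh.HH X (dd P) 1) = _ from hd 1 (by omega),
    show Module.finrank k (Coh.HH X (dd P) 2) = _ from hd 2 le_rfl]
  norm_num
  ring

variable [IsAlgClosed k]

theorem euler_structure_K3 (hdim : topologicalKrullDim X = 2) {H : X.Modules} (hH : CohB1.IsAmple H)
    (hK : ExtPow.IsExtPow 2 (Omega.sheaf (X ↘ Spec (CommRingCat.of k))) (Coh.structureModule X))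
    (hq : Module.finrank k (Coh.HH X (Coh.structureModule X) 1) = 0) :
    Curv2.euler k X (Coh.structureModule X) = 2 := by
  haveI := EulerIneqLib.isNoetherian_proper (X := X) k
  obtain ⟨-, -, hd⟩ := TwistShriek.canonical_data_proper k hdim hK
  have h2 : Module.finrank k (Coh.HH X (Coh.structureModule X) 2) = 1 := by
    have u : CohB1.tensorMod (Coh.structureModule X) (Coh.structureModule X) ≅ Coh.structureModule X :=
      AmpleLib.unitL (Coh.structureModule X)
    have := hd (Coh.structureModule X) (Coh.structureModule X) ParaFLib.isInvertible_structureModule ⟨u⟩ 0 (by omega)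
    rw [ShBCLib.finrank_HH_iso (K := k) u 0, CurveLib.finrank_H0_structure (k := k)] at this
    exact this.symm
  rw [CurveLib.euler_eq_sum (K := k) (Coh.structureModule X) 3 fun q hq =>
    CurveLib.subsingleton_HH_of_dim (d := 2) _ hdim.le (by omega)]
  simp only [Finset.sum_range_succ, Finset.sum_range_zero, CurveLib.finrank_H0_structure (k := k), hq, h2]
  norm_num

theorem euler_end (hdim : topologicalKrullDim X = 2) {H : X.Modules} (hH : CohB1.IsAmple H)
    (hK : ExtPow.IsExtPow 2 (Omega.sheaf (X ↘ Spec (CommRingCat.of k))) (Coh.structureModule X))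
    {C : Scheme.{u}} [C.Over (Spec (CommRingCat.of k))] [IsIntegral C] (hC : topologicalKrullDim C = 1)
    (i : C ⟶ X) [IsClosedImmersion i] (hi : i ≫ (X ↘ Spec (CommRingCat.of k)) = C ↘ Spec (CommRingCat.of k))
    {A : C.Modules} (hA : PicF.IsInvertible A) {e : ℕ} (lam : FlatMod.freeMod X e ⟶ (Coh.push i).obj A) [Epi lam]
    (hF : FlatMod.IsFinLocFree (kernel lam)) :
    Curv2.euler k X (RefHull.homSh (kernel lam) (kernel lam)) =
      (e : ℤ) * e * Curv2.euler k X (Coh.structureModule X) - 2 * e * Curv2.euler k C A +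
        2 * Curv2.euler k C (Coh.structureModule C) := by
  haveI := EulerIneqLib.isNoetherian_proper (X := X) k
  haveI : IsProper (C ↘ Spec (CommRingCat.of k)) := by rw [← hi]; infer_instance
  haveI := EulerIneqLib.isNoetherian_proper (X := C) k
  set F := kernel lam with hFdef
  let O := Coh.structureModule X
  have hO : Coh.IsCoh O := DevLib.isCoh_structureModule X
  have hAc : Coh.IsCoh A := CurveLib.isCoh_of_isInvertible hA
  have hfree := DegDevLib.isFinLocFreeOfRank_freeMod (X := X) e
  have hfc : Coh.IsCoh (FlatMod.freeMod X e) := CurveLib.isCoh_of_isFinLocFree (flf_of_rank hfree)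
  have hpc : Coh.IsCoh ((Coh.push i).obj A) := DevLib.isCoh_pushforward_closed i hAc
  haveI hFq : Coh.IsQCoh F := (CurveLib.isCoh_of_isFinLocFree hF).1
  let S : ShortComplex X.Modules := ShortComplex.mk (kernel.ι lam) lam (kernel.condition lam)
  have hS : S.ShortExact := ShortComplex.ShortExact.mk' (ShortComplex.exact_of_f_is_kernel _ (kernelIsKernel lam))
    (inferInstanceAs (Mono (kernel.ι lam))) (inferInstanceAs (Epi lam))
  obtain ⟨n, hFn⟩ := KRRAmple.exists_isFinLocFreeOfRank (X := X) hF
  have hη : genericPoint X ∉ Set.range i := by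
    intro hm
    have hu : Set.range i = Set.univ := Set.eq_univ_iff_forall.2 fun y =>
      (genericPoint_specializes y).mem_closed i.isClosedEmbedding.isClosed_range hm
    have h := (i.isEmbedding.toHomeomorph.isHomeomorph).topologicalKrullDim_eq
    rw [hC, hu, (Homeomorph.Set.univ X).isHomeomorph.topologicalKrullDim_eq, hdim] at h
    exact absurd h (by norm_num)
  have hne : n = e := by
    let x := genericPoint X
    haveI : Subsingleton (((Coh.push i).obj A).presheaf.stalk x) := DCohLib.subsingleton_stalk_pushforward i A x hη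
    have hb : Function.Bijective (PullbackMod.stalkLin (kernel.ι lam) x) :=
      ⟨(PullbackMod.mono_iff_stalk (kernel.ι lam)).1 inferInstance x, fun y =>
        (SyzLib.exact_stalkLin' S hS.exact x y).1 (Subsingleton.elim _ _)⟩
    obtain ⟨a⟩ := CurveLib.freeAt_of_isFinLocFreeOfRank hFn x
    obtain ⟨b⟩ := CurveLib.freeAt_of_isFinLocFreeOfRank hfree x
    have := (a.symm.trans ((LinearEquiv.ofBijective _ hb).trans b)).finrank_eq
    simpa using this
  subst hne
  -- duals
  have hDn := rank_dd hFn
  have hD : FlatMod.IsFinLocFree (dd F) := flf_of_rank hDn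
  have hχF : Curv2.euler k X F = (n : ℤ) * Curv2.euler k X O - Curv2.euler k C A := by
    have h := CurveLib.euler_shortExact (K := k) hS (CurveLib.isCoh_of_isFinLocFree hF) hfc hpc
    haveI := hAc.1
    rw [show Curv2.euler k X S.X₂ = _ from DegDevLib.euler_freeMod k n,
      show Curv2.euler k X S.X₃ = _ from IntLib.euler_push k i hi A] at h
    exact eq_sub_of_add_eq h.symm
  have hχD : Curv2.euler k X (dd F) = Curv2.euler k X F := euler_dd k hdim hH hK hF
  -- the curve
  haveI hCi : IsIntegral i.ker.subscheme := by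
    haveI : IsIso i.toImage := inferInstance
    haveI : Nonempty i.ker.subscheme := ⟨i.toImage (genericPoint C)⟩
    exact isIntegral_of_isOpenImmersion (inv i.toImage : i.ker.subscheme ⟶ C)
  have hCd : topologicalKrullDim (i.ker.support : Set X) = 1 := by
    rw [Scheme.Hom.support_ker, i.isClosedEmbedding.isClosed_range.closure_eq, ← hC]
    exact (i.isEmbedding.toHomeomorph.isHomeomorph.topologicalKrullDim_eq).symm
  have hI := TwistShriek.invertible_curve k hdim i.ker hCi hCd
  obtain ⟨N, hN, ⟨θ⟩⟩ := AmpleEmb.exists_isInverseOf hI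
  obtain ⟨q⟩ := TwistShriek.nonempty_quotMod_ker_iso i
  haveI hOCq : Coh.IsQCoh (Coh.structureModule C) := (DevLib.isCoh_structureModule C).1
  have hq : Curv2.euler k X (ClSub.quotMod i.ker) = Curv2.euler k C (Coh.structureModule C) :=
    (CurveLib.euler_iso (K := k) q).trans (IntLib.euler_push k i hi _)
  have hform : ∀ z ∈ Nakai.Aug X, Nakai.form k (Nakai.cl hN) z = - Nakai.form k (Nakai.cl hI) z := fun z hz => by
    have h := Nakai.form_congr k hdim (u := Nakai.cl hI) (w := IntLib.dif hN) (Nakai.cl_mul_inverse_mem hI hN θ) hz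
    rw [h, show IntLib.dif hN = - Nakai.cl hN by rw [Nakai.cl_eq_neg_dif, neg_neg], Nakai.form, Nakai.form, neg_mul,
      map_neg, neg_neg]
  have hO0 : Nakai.cl (ParaFLib.isInvertible_structureModule (X := X)) = 0 := by
    rw [Nakai.cl, show IntLib.inv' (ParaFLib.isInvertible_structureModule (X := X)) = 1 from
      Subtype.ext IntLib.mk_structureModule, map_one, sub_self]
  have hχN : Curv2.euler k X N = Curv2.euler k X O - Curv2.euler k C (Coh.structureModule C) := by
    obtain ⟨hWi, hd, -⟩ := TwistShriek.canonical_data_proper k hdim hK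
    have h1 := TwistShriek.two_mul_euler_of_duality k hdim.le hWi hd hN
    rw [TwistShriek.intNum_eq_form k hdim.le hN hN, TwistShriek.intNum_eq_form k hdim.le hN hWi,
      hform _ (Nakai.cl_mem hWi), hform _ (Nakai.cl_mem hN), Nakai.form_comm k (Nakai.cl hI) (Nakai.cl hN),
      hform _ (Nakai.cl_mem hI), neg_neg] at h1
    have h2 := TwistShriek.form_adjunction k hdim hK hWi hI
    rw [show Nakai.cl hWi = 0 from hO0, Nakai.form, Nakai.form, mul_zero, map_zero] at h1 h2
    rw [hq] at h2
    linarith
  -- degree of the normal module on the curve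
  let b := Curv2.euler k C ((Scheme.Modules.pullback i).obj N)
  have hiN := AmpleLib.isInvertible_pullback i hN
  have hb : b = - Curv2.euler k C (Coh.structureModule C) := by
    obtain ⟨T, hT, t1, ⟨t2⟩, ⟨t3⟩, -⟩ := RatSingLib.exists_seq i hN
    haveI := (CurveLib.isCoh_of_isInvertible hiN).1
    have h := CurveLib.euler_shortExact (K := k) hT
      (t1 ▸ ShStabLib.isCoh_of_iso θ.symm hO)
      (ShStabLib.isCoh_of_iso t2.symm (CurveLib.isCoh_of_isInvertible hN))
      (ShStabLib.isCoh_of_iso t3.symm (DevLib.isCoh_pushforward_closed i (CurveLib.isCoh_of_isInvertible hiN)))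
    rw [CurveLib.euler_iso (K := k) t2, CurveLib.euler_iso (K := k) t3, t1, CurveLib.euler_iso (K := k) θ,
      IntLib.euler_push k i hi, hχN] at h
    change _ = _ + b at h
    linarith
  -- twisting the bundle by the normal module
  have hFN : FlatMod.IsFinLocFree (tmod F N) :=
    DCohLib.isFinLocFree_tensor hF (CurveLib.isFinLocFree_of_isInvertible hN)
  have hpush : ∀ (G : X.Modules), Coh.IsCoh G → Curv2.euler k X (tmod ((Coh.push i).obj A) G) =
      Curv2.euler k C (tmod A ((Scheme.Modules.pullback i).obj G)) := fun G hG => by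
    haveI : Coh.IsQCoh (tmod A ((Scheme.Modules.pullback i).obj G)) :=
      (CurveLib.isCoh_tmod hAc (PullbackMod.isCoh_pullback i G hG)).1
    exact (CurveLib.euler_iso (K := k) (DCohLib.projIso i A G)).trans (IntLib.euler_push k i hi _)
  have hseq : ∀ (G : X.Modules) (r : ℕ), FlatMod.IsFinLocFreeOfRank r G →
      Curv2.euler k X (tmod F G) = (n : ℤ) * Curv2.euler k X G -
        Curv2.euler k C (tmod A ((Scheme.Modules.pullback i).obj G)) := fun G r hG => by
    have hGc : Coh.IsCoh G := CurveLib.isCoh_of_isFinLocFree (flf_of_rank hG)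
    have h := CurveLib.euler_shortExact (K := k) (CurveLib.shortExact_tensR hS (CurveLib.freeAt_of_isFinLocFreeOfRank hG))
      (CurveLib.isCoh_tmod (CurveLib.isCoh_of_isFinLocFree hF) hGc) (CurveLib.isCoh_tmod hfc hGc)
      (CurveLib.isCoh_tmod hpc hGc)
    change Curv2.euler k X (tmod (FlatMod.freeMod X n) G) =
      Curv2.euler k X (tmod F G) + Curv2.euler k X (tmod ((Coh.push i).obj A) G) at h
    have hs : Curv2.euler k X (tmod (FlatMod.freeMod X n) G) = (n : ℤ) * Curv2.euler k X G := by
      let Φ := (DCoh.tensorBi (X := X)).flip.obj G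
      haveI : PreservesFiniteColimits Φ := ModTensor.preservesFiniteColimits_tensorBi_flip X.sheaf G
      let u : tmod (FlatMod.freeMod X n) G ≅ ∐ fun _ : Fin n => G :=
        (PreservesCoproduct.iso Φ fun _ : Fin n => Coh.structureModule X) ≪≫ Sigma.mapIso fun _ => AmpleLib.unitL G
      rw [CurveLib.euler_iso (K := k) u, euler_sigma_const k n hGc (d := 2) hdim.le]
    rw [hs, hpush G hGc] at h
    linarith
  have hdegA : Curv2.deg k C A 1 = Curv2.euler k C A - Curv2.euler k C (Coh.structureModule C) := by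
    simp [Curv2.deg]
  have hdegN : Curv2.deg k C ((Scheme.Modules.pullback i).obj N) 1 = b - Curv2.euler k C (Coh.structureModule C) := by
    simp [Curv2.deg, b]
  have hAN : Curv2.euler k C (tmod A ((Scheme.Modules.pullback i).obj N)) =
      Curv2.euler k C A + Curv2.deg k C ((Scheme.Modules.pullback i).obj N) 1 := by
    rw [CurveLib.euler_tensor_invertible (k := k) hC.le (CurveLib.isFinLocFreeOfRank_one hA) hiN, Nat.cast_one, one_mul]
  -- the dual twisted by the ideal
  have hDI : Curv2.euler k X (tmod (ClSub.idealMod i.ker) (dd F)) = Curv2.euler k X (tmod F N) := by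
    obtain ⟨u⟩ := DualInvLib.nonempty_iso_dual hN (AmpleLib.comm N (ClSub.idealMod i.ker) ≪≫ θ)
    obtain ⟨v⟩ := VBLib.DualOps.nonempty_dd_iso_dual (CurveLib.isFinLocFree_of_isInvertible hN)
    obtain ⟨w⟩ := VBLib.DualOps.nonempty_dd_tensor (B := N) hF
    rw [← euler_dd k hdim hH hK hFN]
    exact CurveLib.euler_iso (K := k) (AmpleLib.tIso (u ≪≫ v.symm) (Iso.refl (dd F)) ≪≫ w.symm)
  -- the dual on the curve
  let Dc := (Scheme.Modules.pullback i).obj (dd F)
  have hDc : FlatMod.IsFinLocFreeOfRank n Dc := FlagLib.rank_pullback i (dd F) hDn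
  have hDcc : Coh.IsCoh Dc := CurveLib.isCoh_of_isFinLocFree (flf_of_rank hDc)
  have hDC : Curv2.euler k X (dd F) = Curv2.euler k X (tmod (ClSub.idealMod i.ker) (dd F)) + Curv2.euler k C Dc := by
    haveI := Groth.Agent.SerreAff.epi_unitToPush i.ker.subschemeι
    haveI : Mono (ClSub.idealModι i.ker) := inferInstanceAs (Mono (kernel.ι _))
    let U : ShortComplex X.Modules :=
      ShortComplex.mk (ClSub.idealModι i.ker) (ClSub.toSubscheme i.ker) (kernel.condition _)
    have hU : U.ShortExact := ShortComplex.ShortExact.mk'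
      (ShortComplex.exact_of_f_is_kernel _ (kernelIsKernel _)) (inferInstanceAs (Mono (ClSub.idealModι i.ker)))
      (inferInstanceAs (Epi (ClSub.toSubscheme i.ker)))
    have hDx : Coh.IsCoh (dd F) := CurveLib.isCoh_of_isFinLocFree hD
    have hqc : Coh.IsCoh (ClSub.quotMod i.ker) :=
      ShStabLib.isCoh_of_iso q.symm (DevLib.isCoh_pushforward_closed i (DevLib.isCoh_structureModule C))
    have h := CurveLib.euler_shortExact (K := k) (CurveLib.shortExact_tensR hU (CurveLib.freeAt_of_isFinLocFreeOfRank hDn))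
      (CurveLib.isCoh_tmod (CurveLib.isCoh_of_isInvertible hI) hDx) (CurveLib.isCoh_tmod hO hDx)
      (CurveLib.isCoh_tmod hqc hDx)
    change Curv2.euler k X (tmod O (dd F)) = Curv2.euler k X (tmod (ClSub.idealMod i.ker) (dd F)) +
      Curv2.euler k X (tmod (ClSub.quotMod i.ker) (dd F)) at h
    haveI := hDcc.1
    have u : Curv2.euler k X (tmod (ClSub.quotMod i.ker) (dd F)) = Curv2.euler k C Dc :=
      (CurveLib.euler_iso (K := k) (((DCoh.tensorBi (X := X)).mapIso q).app (dd F) ≪≫
        DCohLib.projIso i (Coh.structureModule C) (dd F) ≪≫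
          (Scheme.Modules.pushforward i).mapIso (AmpleLib.unitL Dc))).trans (IntLib.euler_push k i hi Dc)
    have u0 : Curv2.euler k X (tmod O (dd F)) = Curv2.euler k X (dd F) :=
      CurveLib.euler_iso (K := k) (AmpleLib.unitL (dd F))
    rw [u0, u] at h
    exact h
  rw [hDI, hseq N 1 (CurveLib.isFinLocFreeOfRank_one hN), hAN, hdegN, hb, hχD, hχF, hχN] at hDC
  -- endomorphisms
  haveI := DefExtLib.isIso_toHomSh F F
  haveI := LocFreeHomLib.isIso_alpha F hF F
  rw [← CurveLib.euler_iso (K := k) (asIso (LocFreeHomLib.alpha F F) ≪≫ asIso (DefExtLib.toHomSh F F)),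
    hseq (dd F) n hDn, CurveLib.euler_iso (K := k) (CurveLib.tmodComm A Dc),
    CurveLib.euler_tensor_invertible (k := k) hC.le hDc hA, hdegA, hχD, hχF]
  linear_combination hDC

end Surface

end Groth.Agent.LazMuk
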