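import Groth.Agent.LazMukLib.Free
import Groth.Agent.HodgePnLib.FreeHom
import Groth.Agent.CurveLib.CurveVanish
import Groth.Agent.VBLib.Deg
import Groth.Agent.VBLib.Point
import Groth.Agent.LinPencilLib.Basic

/-!
# The globally generated part of an invertible module on a curve, and its evaluation map on the surface
-/

set_option autoImplicit false
set_option backward.isDefEq.respectTransparency false
set_option linter.style.haveILetI false
set_option maxHeartbeats 1000000
set_option synthInstance.maxHeartbeats 200000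

universe u

open CategoryTheory CategoryTheory.Limits AlgebraicGeometry TopologicalSpace
open Groth.Agent.PullbackMod Groth.Agent.DegDevLib

noncomputable section

namespace Groth.Agent.LazMuk

variable (k : Type u) [Field k] [IsAlgClosed k]

/-- The subsheaf generated by the global sections of an invertible module on a regular curve. -/
theorem exists_globGen {C : Scheme.{u}} [C.Over (Spec (CommRingCat.of k))] [IsIntegral C]
    [IsProper (C ↘ Spec (CommRingCat.of k))] [AlgebraicGeometry.IsNoetherian C] [VBLib.IsRegCurve C]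
    (hC : topologicalKrullDim C = 1) (hO : Module.finrank k (Coh.HH C (Coh.structureModule C) 0) = 1)
    {A : C.Modules} (hA : PicF.IsInvertible A) (h0 : Module.finrank k (Coh.HH C A 0) ≠ 0) :
    ∃ (A' : C.Modules) (n : ℕ) (q : FlatMod.freeMod C n ⟶ A'), Epi q ∧ PicF.IsInvertible A' ∧
      Module.finrank k (Coh.HH C A' 0) = n ∧ Module.finrank k (Coh.HH C A 0) = n ∧
      Function.Bijective (CurveLib.hMap (k := k) q 0) ∧
      Module.finrank k (Coh.HH C A 1) ≤ Module.finrank k (Coh.HH C A' 1) := by
  classical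
  have hAc : Coh.IsCoh A := CurveLib.isCoh_of_isInvertible hA
  haveI := EulerIneqLib.finite_HH (k := k) hAc 0
  let n := Module.finrank k (Coh.HH C A 0)
  let b : Module.Basis (Fin n) k (Coh.HH C A 0) := Module.finBasis k _
  let p : FlatMod.freeMod C n ⟶ A := HodgePnLib.ofVals fun l => b l
  have hnc : Coh.IsCoh (FlatMod.freeMod C n) :=
    CurveLib.isCoh_of_isFinLocFree (VBLib.DualDeg.flf_of_rank (DegDevLib.isFinLocFreeOfRank_freeMod n))
  haveI := HodgePnLib.finite_free (k := k) hO n
  have hps : Function.Surjective (CurveLib.hMap (k := k) p 0) := fun z => by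
    refine ⟨∑ l, b.repr z l • HodgePnLib.std (k := k) n l, ?_⟩
    rw [map_sum]
    conv_rhs => rw [← b.sum_repr z]
    exact Finset.sum_congr rfl fun l _ => by rw [map_smul, HodgePnLib.hMap_std, HodgePnLib.ev_ofVals]
  have hpb : Function.Bijective (CurveLib.hMap (k := k) p 0) :=
    ⟨(LinearMap.injective_iff_surjective_of_finrank_eq_finrank (HodgePnLib.finrank_free hO n)).2 hps, hps⟩
  let A' := Abelian.image p
  let q : FlatMod.freeMod C n ⟶ A' := Abelian.factorThruImage p
  let j : A' ⟶ A := Abelian.image.ι p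
  have hqj : q ≫ j = p := Abelian.image.fac p
  have hA'c : Coh.IsCoh A' := ShStabLib.isCoh_image' p hnc hAc
  haveI := EulerIneqLib.finite_HH (k := k) hA'c 1
  have hjb : Function.Bijective (CurveLib.hMap (k := k) j 0) := ⟨LinPencilLib.injective_hMap j, fun z => by
    obtain ⟨w, rfl⟩ := hps z
    exact ⟨CurveLib.hMap (k := k) q 0 w, by rw [← HorrocksPnLib.hMap_comp, hqj]⟩⟩
  have hqb : Function.Bijective (CurveLib.hMap (k := k) q 0) := by
    have h : (CurveLib.hMap (k := k) p 0 : _ → _) = CurveLib.hMap (k := k) j 0 ∘ CurveLib.hMap (k := k) q 0 :=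
      funext fun w => by rw [Function.comp_apply, ← HorrocksPnLib.hMap_comp, hqj]
    refine ⟨fun a c hac => hpb.1 (by rw [h, Function.comp_apply, Function.comp_apply, hac]), fun z => ?_⟩
    obtain ⟨w, hw⟩ := hps (CurveLib.hMap (k := k) j 0 z)
    exact ⟨w, hjb.1 (by rw [← HorrocksPnLib.hMap_comp, hqj]; exact hw)⟩
  have hA'n : Module.finrank k (Coh.HH C A' 0) = n :=
    (LinearEquiv.ofBijective _ hjb).finrank_eq
  have hA1 := CurveLib.isFinLocFreeOfRank_one hA
  have hA'r := VBLib.rank_of_mono j hA'c hA1
  have hg : VBLib.grk A' = 1 := by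
    have hne : VBLib.grk A' ≠ 0 := fun h => by
      have hz := VBLib.isZero_of_mono j hA'c hA1 h
      haveI : Subsingleton (Coh.HH C A' 0) := subsingleton_of_forall_eq 0 fun z => by
        rw [← HorrocksPnLib.hMap_id k A' 0 z, hz.eq_of_src (𝟙 A') 0, HorrocksPnLib.hMap_zero]
      exact h0 (by rw [show Module.finrank k (Coh.HH C A 0) = n from rfl, ← hA'n, Module.finrank_zero_of_subsingleton])
    have h := VBLib.grk_add (DevLib.cokerSeq_shortExact j) hA'c (QCohLib.isCoh_kernel_cokernel j hA'c hAc).2
    have h1 : VBLib.grk (DevLib.cokerSeq j).X₂ = 1 := VBLib.grk_of_rank hA1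
    rw [h1] at h
    change 1 = VBLib.grk A' + _ at h
    omega
  rw [hg] at hA'r
  refine ⟨A', n, q, inferInstanceAs (Epi (Abelian.factorThruImage p)), VBLib.isInvertible_of_rank hA'r, hA'n, rfl,
    hqb, ?_⟩
  have hcc := (QCohLib.isCoh_kernel_cokernel j hA'c hAc).2
  have hcl := DevLib.isClosed_support hcc
  have hη : genericPoint C ∉ CohB1.support (cokernel j) := by
    refine (VBLib.grk_eq_zero_iff hcc).1 ?_
    have h := VBLib.grk_add (DevLib.cokerSeq_shortExact j) hA'c hcc
    have h1 : VBLib.grk (DevLib.cokerSeq j).X₂ = 1 := VBLib.grk_of_rank hA1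
    rw [h1] at h
    change 1 = VBLib.grk A' + VBLib.grk (cokernel j) at h
    omega
  have hs : Function.Surjective (CurveLib.hMap (k := k) j 1) :=
    CurveLib.hMap_one_surjective (k := k) hC.le j hcl (CurveLib.dim_le_zero_of_notMem hC.le hcl (genericPoint_spec C) hη)
      fun x hx => mem_support_coker_iff j x hx
  exact LinearMap.finrank_le_finrank_of_surjective hs

/-- Generators on the curve give generators of the direct image on the surface. -/
theorem exists_lam {X C : Scheme.{u}} [X.Over (Spec (CommRingCat.of k))] [IsProper (X ↘ Spec (CommRingCat.of k))]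
    [C.Over (Spec (CommRingCat.of k))] [IsProper (C ↘ Spec (CommRingCat.of k))]
    (hOX : Module.finrank k (Coh.HH X (Coh.structureModule X) 0) = 1)
    (hOC : Module.finrank k (Coh.HH C (Coh.structureModule C) 0) = 1)
    (i : C ⟶ X) [IsClosedImmersion i] (hi : i ≫ (X ↘ Spec (CommRingCat.of k)) = C ↘ Spec (CommRingCat.of k))
    {A : C.Modules} [Coh.IsQCoh A] {n : ℕ} (hn : Module.finrank k (Coh.HH C A 0) = n)
    (q : FlatMod.freeMod C n ⟶ A) [Epi q] (hq : Function.Bijective (CurveLib.hMap (k := k) q 0)) :
    ∃ lam : FlatMod.freeMod X n ⟶ (Coh.push i).obj A, Epi lam ∧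
      Function.Bijective (CurveLib.hMap (k := k) lam 0) := by
  classical
  let t : Fin n → Γ(A, ⊤) := fun l => AmpleLib.sec (Sigma.ι (fun _ : Fin n => Coh.structureModule C) l ≫ q)
  let t' : Fin n → Γ((Coh.push i).obj A, ⊤) := fun l => (show Γ((Coh.push i).obj A, ⊤) from t l)
  let lam : FlatMod.freeMod X n ⟶ (Coh.push i).obj A := DegDevLib.descS t'
  have hev : ∀ l, HodgePnLib.ev (k := k) lam l = (CurveLib.secOf _).symm (t' l) := fun l => by
    rw [HodgePnLib.ev, HodgePnLib.hMap_one₀]
    refine congrArg _ ?_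
    rw [show Sigma.ι (fun _ : Fin n => Coh.structureModule X) l ≫ lam = DCohLib.secHom _ (t' l) from Sigma.ι_desc _ _]
    exact AmpleLib.sec_secHom _
  have hevq : ∀ l, CurveLib.secOf A (HodgePnLib.ev (k := k) q l) = t l := fun l => by
    rw [HodgePnLib.ev, HodgePnLib.hMap_one₀, AddEquiv.apply_symm_apply]
  refine ⟨lam, ?_, ?_⟩
  · refine (PullbackMod.epi_iff_stalk lam).2 fun x => ?_
    intro w
    by_cases hx : x ∈ Set.range i
    swap
    · haveI := DCohLib.subsingleton_stalk_pushforward i A x hx
      exact ⟨0, Subsingleton.elim _ _⟩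
    obtain ⟨z, rfl⟩ := hx
    obtain ⟨y, hy⟩ := (PullbackMod.epi_iff_stalk q).1 inferInstance z (DCohLib.pushStalk i A z w)
    obtain ⟨a, rfl⟩ := (stdGerm_bijective n z).2 y
    choose b hb using fun l => i.stalkMap_surjective z (a l)
    refine ⟨∑ l, b l • stdGerm n (i z) l, (DCohLib.bijective_pushStalk i A z).1 ?_⟩
    rw [map_sum, map_sum, ← hy, Fintype.linearCombination_apply, map_sum]
    refine Finset.sum_congr rfl fun l _ => ?_
    rw [(stalkLin lam (i z)).map_smul, DegDevLib.descS_stdGerm, DCohLib.pushStalk_smul, (stalkLin q z).map_smul,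
      stalkLin_stdGerm_sigma, hb l,
      ParaFLib.oneG, stalkLin_germ]
    exact congrArg _ (DCohLib.pushStalk_germ i A z (W := ⊤) trivial (t' l))
  · haveI := HodgePnLib.finite_free (k := k) hOX n
    have hfr : Module.finrank k (Coh.HH X ((Coh.push i).obj A) 0) = n :=
      (IntLib.finrank_push k i hi A 0).trans hn
    haveI : Module.Finite k (Coh.HH X ((Coh.push i).obj A) 0) := by
      rcases Nat.eq_zero_or_pos n with h | h
      · subst h
        have : Function.Surjective (CurveLib.secOf A).symm := (CurveLib.secOf A).symm.surjective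
        haveI : Subsingleton (Coh.HH C (FlatMod.freeMod C 0) 0) := by
          haveI := HodgePnLib.finite_free (k := k) hOC 0
          exact (Module.finrank_eq_zero_iff_of_free k _).1 (HodgePnLib.finrank_free hOC 0)
        haveI : Subsingleton (Coh.HH C A 0) := hq.2.subsingleton
        haveI : Subsingleton Γ(A, ⊤) := (CurveLib.secOf A).symm.toEquiv.subsingleton
        haveI : Subsingleton (Coh.HH X ((Coh.push i).obj A) 0) :=
          ⟨fun a b => (CurveLib.secOf _).injective (show (_ : Γ(A, ⊤)) = _ from Subsingleton.elim _ _)⟩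
        infer_instance
      · exact Module.finite_of_finrank_pos (hfr ▸ h)
    have hsurj : Function.Surjective (CurveLib.hMap (k := k) lam 0) := fun z => by
      obtain ⟨v, hv⟩ := hq.2 ((CurveLib.secOf A).symm (show Γ(A, ⊤) from CurveLib.secOf ((Coh.push i).obj A) z))
      obtain ⟨c, rfl⟩ := (Submodule.mem_span_range_iff_exists_fun k).1
        ((HodgePnLib.span_std (k := k) hOC n).ge (Submodule.mem_top : v ∈ ⊤))
      refine ⟨∑ l, c l • HodgePnLib.std (k := k) n l, (CurveLib.secOf _).injective ?_⟩
      rw [map_sum, map_sum]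
      rw [map_sum] at hv
      have h := congrArg (CurveLib.secOf A) hv
      rw [AddEquiv.apply_symm_apply, map_sum] at h
      refine Eq.trans (Finset.sum_congr rfl fun l _ => ?_) h
      rw [(CurveLib.hMap (k := k) lam 0).map_smul, (CurveLib.hMap (k := k) q 0).map_smul, HodgePnLib.hMap_std,
        HodgePnLib.hMap_std, hev, CurveLib.secOf_smul, CurveLib.secOf_smul, AddEquiv.apply_symm_apply, hevq, IntLib.toGlobal_comp k i hi]
      rfl
    exact ⟨(LinearMap.injective_iff_surjective_of_finrank_eq_finrank
      ((HodgePnLib.finrank_free hOX n).trans hfr.symm)).2 hsurj, hsurj⟩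

end Groth.Agent.LazMuk
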