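import Groth.Agent.LazMukLib.EndBound
import Groth.Agent.HodgePnLib.FreeHom

/-!
# First cohomology of the dual bundle tensored with the line bundle on the curve
-/

set_option autoImplicit false
set_option backward.isDefEq.respectTransparency false
set_option linter.style.haveILetI false
set_option maxHeartbeats 1000000
set_option synthInstance.maxHeartbeats 200000

universe u

open CategoryTheory CategoryTheory.Limits AlgebraicGeometry TopologicalSpace
open Groth.Agent.DCohLib Groth.Agent.VBLib.DualDeg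

noncomputable section

namespace Groth.Agent.LazMuk

local instance hasHF'' {X : Scheme.{u}} (M : X.Modules) : ModSite.HasSheafHom (O := X.sheaf) M :=
  ModTensor.hasSheafHom (O := X.sheaf) M

variable (k : Type u) [Field k] {X : Scheme.{u}} [X.Over (Spec (CommRingCat.of k))]
  [IsProper (X ↘ Spec (CommRingCat.of k))] [IsIntegral X] [Smooth (X ↘ Spec (CommRingCat.of k))]

theorem finrank_dd (hdim : topologicalKrullDim X = 2) {H : X.Modules} (hH : CohB1.IsAmple H)
    (hK : ExtPow.IsExtPow 2 (Omega.sheaf (X ↘ Spec (CommRingCat.of k))) (Coh.structureModule X))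
    {P : X.Modules} (hP : FlatMod.IsFinLocFree P) (j : ℕ) (hj : j ≤ 2) :
    Module.finrank k (Coh.HH X (dd P) j) = Module.finrank k (Coh.HH X P (2 - j)) := by
  haveI := EulerIneqLib.isNoetherian_proper (X := X) k
  obtain ⟨N, ι, hι0, hι⟩ := TwistShriek.exists_closedImmersion_of_ample (X ↘ Spec (CommRingCat.of k)) hH
  haveI := hι0
  haveI : SmoothOfRelativeDimension 2 (X ↘ Spec (CommRingCat.of k)) :=
    TwistShriek.smoothOfRelativeDimension_of_smooth (X ↘ Spec (CommRingCat.of k)) hdim
  obtain ⟨t, ht⟩ := FundLocIsoLib.exists_trace_topForms ι hι hK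
  have hcm := FundLocIsoLib.cm_closedPoint (n := 2) ι hι
  have hω := FundLocIsoLib.isCoh_topForms ι hι hK
  exact ProjSerreLib.finrank_hF_gen ι hω (ProjSerreLib.vanish_of_cm ι hcm) t hdim.le ht j hj P hP

variable [IsAlgClosed k]

/-- `h¹(F^∨ ⊗ i_*A) = 1` for a simple Lazarsfeld–Mukai bundle. -/
theorem finrank_H1_dual_tensor (hdim : topologicalKrullDim X = 2) {H : X.Modules} (hH : CohB1.IsAmple H)
    (hK : ExtPow.IsExtPow 2 (Omega.sheaf (X ↘ Spec (CommRingCat.of k))) (Coh.structureModule X))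
    (hq : Module.finrank k (Coh.HH X (Coh.structureModule X) 1) = 0)
    {B : X.Modules} (hB : Coh.IsCoh B) {e : ℕ} (lam : FlatMod.freeMod X e ⟶ B) [Epi lam]
    (hlam : Function.Bijective (CurveLib.hMap (k := k) lam 0))
    (hF : FlatMod.IsFinLocFree (kernel lam))
    (hsimple : Module.finrank k (Coh.HH X (RefHull.homSh (kernel lam) (kernel lam)) 0) = 1) :
    Module.finrank k (Coh.HH X (CohB1.tensorMod (RefHull.dual (kernel lam)) B) 1) = 1 := by
  haveI := EulerIneqLib.isNoetherian_proper (X := X) k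
  set F := kernel lam with hFdef
  obtain ⟨n, hFn⟩ := KRRAmple.exists_isFinLocFreeOfRank (X := X) hF
  have hFc := CurveLib.isCoh_of_isFinLocFree hF
  haveI := hFc.1
  have hO : Coh.IsCoh (Coh.structureModule X) := DevLib.isCoh_structureModule X
  have hfree := DegDevLib.isFinLocFreeOfRank_freeMod (X := X) e
  have hfc : Coh.IsCoh (FlatMod.freeMod X e) := CurveLib.isCoh_of_isFinLocFree (flf_of_rank hfree)
  have hD : FlatMod.IsFinLocFree (dd F) := flf_of_rank (rank_dd hFn)
  have hDc := CurveLib.isCoh_of_isFinLocFree hD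
  let S : ShortComplex X.Modules := ShortComplex.mk (kernel.ι lam) lam (kernel.condition lam)
  have hS : S.ShortExact := ShortComplex.ShortExact.mk' (ShortComplex.exact_of_f_is_kernel _ (kernelIsKernel lam))
    (inferInstanceAs (Mono (kernel.ι lam))) (inferInstanceAs (Epi lam))
  haveI : ∀ i, Module.Finite k (Coh.HH X (Coh.structureModule X) i) := fun i =>
    EulerIneqLib.finite_HH (k := k) hO i
  haveI : ∀ i, Module.Finite k (Coh.HH X F i) := fun i => EulerIneqLib.finite_HH (k := k) hFc i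
  haveI : ∀ i, Module.Finite k (Coh.HH X (dd F) i) := fun i => EulerIneqLib.finite_HH (k := k) hDc i
  -- `h⁰(F) = h¹(F) = 0`
  haveI hF0 : Subsingleton (Coh.HH X F 0) := subsingleton_of_forall_eq 0 fun z =>
    CurveLib.hMap_f_zero_injective (k := k) hS (by
      rw [map_zero]
      refine hlam.1 ?_
      rw [map_zero]
      show CurveLib.hMap (k := k) lam 0 (CurveLib.hMap (k := k) (kernel.ι lam) 0 z) = 0
      rw [← HorrocksPnLib.hMap_comp, kernel.condition, HorrocksPnLib.hMap_zero])
  haveI hF1 : Subsingleton (Coh.HH X F 1) := subsingleton_of_forall_eq 0 fun z => by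
    haveI : Subsingleton (Coh.HH X (FlatMod.freeMod X e) 1) := by
      haveI := EulerIneqLib.finite_HH (k := k) hfc 1
      rw [← Module.finrank_eq_zero_iff_of_free k]
      exact (finrank_HH_sigma_const k e (Coh.structureModule X) 1).trans (by rw [hq, mul_zero])
    have hz : z ∈ LinearMap.range (CurveLib.hδ (k := k) hS 0) := by
      rw [CurveLib.range_hδ hS 0]
      exact LinearMap.mem_ker.2 (Subsingleton.elim (α := Coh.HH X (FlatMod.freeMod X e) 1) _ _)
    obtain ⟨w, rfl⟩ := hz
    obtain ⟨v, rfl⟩ := hlam.2 w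
    have : CurveLib.hMap (k := k) lam 0 v ∈ LinearMap.ker (CurveLib.hδ (k := k) hS 0) :=
      (CurveLib.range_hMap_g (k := k) hS 0).le ⟨v, rfl⟩
    exact this
  have hd : ∀ j ≤ 2, Module.finrank k (Coh.HH X (dd F) j) = Module.finrank k (Coh.HH X F (2 - j)) := fun j hj =>
    finrank_dd k hdim hH hK hF j hj
  -- twist by the dual
  let T := S.map (CurveLib.tensR (dd F))
  have hT : T.ShortExact := CurveLib.shortExact_tensR hS (CurveLib.freeAt_of_isFinLocFreeOfRank (rank_dd hFn))
  let Φ := (DCoh.tensorBi (X := X)).flip.obj (dd F)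
  haveI : PreservesFiniteColimits Φ := ModTensor.preservesFiniteColimits_tensorBi_flip X.sheaf (dd F)
  let u : tmod (FlatMod.freeMod X e) (dd F) ≅ ∐ fun _ : Fin e => dd F :=
    (PreservesCoproduct.iso Φ fun _ : Fin e => Coh.structureModule X) ≪≫ Sigma.mapIso fun _ => AmpleLib.unitL (dd F)
  have h2z : ∀ j, 1 ≤ j → j ≤ 2 → Subsingleton (Coh.HH X T.X₂ j) := fun j hj hj2 => by
    haveI := EulerIneqLib.finite_HH (k := k) (CurveLib.isCoh_tmod hfc hDc) j
    show Subsingleton (Coh.HH X (tmod (FlatMod.freeMod X e) (dd F)) j)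
    rw [← Module.finrank_eq_zero_iff_of_free k, ShBCLib.finrank_HH_iso (K := k) u j,
      finrank_HH_sigma_const k e (dd F) j, hd j hj2]
    obtain rfl | rfl : j = 1 ∨ j = 2 := by omega
    · rw [show (2 - 1 : ℕ) = 1 from rfl, Module.finrank_zero_of_subsingleton (R := k) (M := Coh.HH X F 1), mul_zero]
    · rw [show (2 - 2 : ℕ) = 0 from rfl, Module.finrank_zero_of_subsingleton (R := k) (M := Coh.HH X F 0), mul_zero]
  have hb : Function.Bijective (CurveLib.hδ (k := k) hT 1) := by
    haveI := h2z 1 le_rfl one_le_two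
    haveI := h2z 2 one_le_two le_rfl
    refine ⟨(injective_iff_map_eq_zero _).2 fun x hx => ?_, fun y => ?_⟩
    · obtain ⟨w, rfl⟩ := (CurveLib.range_hMap_g (k := k) hT 1).ge (LinearMap.mem_ker.2 hx)
      rw [Subsingleton.elim (α := Coh.HH X T.X₂ 1) w 0, map_zero]
    · exact (CurveLib.range_hδ (k := k) hT 1).ge (LinearMap.mem_ker.2 (Subsingleton.elim (α := Coh.HH X T.X₂ 2) _ _))
  -- endomorphisms
  haveI := DefExtLib.isIso_toHomSh F F
  haveI := LocFreeHomLib.isIso_alpha F hF F
  let eP : tmod F (dd F) ≅ RefHull.homSh F F := asIso (LocFreeHomLib.alpha F F) ≪≫ asIso (DefExtLib.toHomSh F F)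
  have hP : FlatMod.IsFinLocFree (tmod F (dd F)) := DCohLib.isFinLocFree_tensor hF hD
  obtain ⟨d⟩ := VBLib.DualOps.nonempty_dd_tensor (B := dd F) hF
  obtain ⟨w⟩ := nonempty_dd_dd hFn
  let eD : dd (tmod F (dd F)) ≅ tmod F (dd F) := d ≪≫ AmpleLib.tIso w (Iso.refl (dd F))
  have hend : Module.finrank k (Coh.HH X T.X₁ 2) = 1 := by
    have h := finrank_dd k hdim hH hK hP 0 (by omega)
    rw [ShBCLib.finrank_HH_iso (K := k) eD 0, ShBCLib.finrank_HH_iso (K := k) eP 0, hsimple] at h
    exact h.symm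
  obtain ⟨a⟩ := VBLib.DualOps.nonempty_dd_iso_dual hF
  refine Eq.trans ?_ ((LinearEquiv.ofBijective _ hb).finrank_eq.trans hend)
  exact ShBCLib.finrank_HH_iso (K := k) (AmpleLib.tIso a.symm (Iso.refl B) ≪≫ CurveLib.tmodComm (dd F) B) 1

end Groth.Agent.LazMuk
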