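import Groth.Agent.LazMukLib.Stable

/-!
# Simplicity of Lazarsfeld–Mukai bundles when the Picard group is generated by the curve
-/

set_option autoImplicit false
set_option backward.isDefEq.respectTransparency false
set_option linter.style.haveILetI false
set_option maxHeartbeats 1000000
set_option synthInstance.maxHeartbeats 200000

universe u

open CategoryTheory CategoryTheory.Limits AlgebraicGeometry TopologicalSpace
open Groth.Agent.Nakai
open Groth.Agent.IntLib (PicRing pairing dif inv')

noncomputable section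

namespace Groth.Agent.LazMuk

variable (k : Type u) [Field k] [IsAlgClosed k] {X : Scheme.{u}} [X.Over (Spec (CommRingCat.of k))] [IsIntegral X]
  [IsProper (X ↘ Spec (CommRingCat.of k))] [PicGrp.Law X]

omit [IsAlgClosed k] [IsIntegral X] in
include k in
/-- The inverse of the ideal of a curve generating the Picard group is ample. -/
theorem exists_ample_inverse (hdim : topologicalKrullDim X = 2) {H : X.Modules} (hH : CohB1.IsAmple H)
    {J : X.IdealSheafData} (hJd : topologicalKrullDim (J.support : Set X) = 1)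
    (hI : PicF.IsInvertible (ClSub.idealMod J))
    (hgen : ∀ c : PicLoc.PicSet X, ∃ n : ℤ, c = PicGrp.cls (ClSub.idealMod J) hI ^ n) :
    ∃ L : X.Modules, CohB1.IsAmple L ∧
      Nonempty (CohB1.tensorMod L (ClSub.idealMod J) ≅ Coh.structureModule X) := by
  haveI := EulerIneqLib.isNoetherian_proper (X := X) k
  obtain ⟨L, hL, ⟨θ⟩⟩ := AmpleEmb.exists_isInverseOf hI
  have θ' : CohB1.tensorMod L (ClSub.idealMod J) ≅ Coh.structureModule X := AmpleLib.comm L _ ≪≫ θ
  refine ⟨L, ?_, ⟨θ'⟩⟩
  obtain ⟨n, hn⟩ := hgen (PicGrp.cls H hH.1)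
  have hpow : ∀ {M : X.Modules} (hM : PicF.IsInvertible M) (n : ℕ) {v : PicRing X}, v ∈ Aug X →
      form k (cl (AmpleLib.isInvertible_tensorPow hM n)) v = n * form k (cl hM) v := fun hM n v hv => by
    have h := form_congr k hdim (u := cl (AmpleLib.isInvertible_tensorPow hM n)) (w := ((n : ℤ) • cl hM))
      (by rw [zsmul_eq_mul, Int.cast_natCast]; exact cl_tensorPow_sub_mem hM n) hv
    rw [h, form_smul_left]
  have hHH := form_ample_pos k hdim hH
  obtain ⟨m, rfl | rfl⟩ := Int.eq_nat_or_neg n
  · exfalso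
    have e : PicGrp.cls H hH.1 = PicGrp.cls _ (AmpleLib.isInvertible_tensorPow hI m) := by
      rw [hn, zpow_natCast]
      exact Subtype.ext (PicGrp.cls_pow_val hI m)
    obtain ⟨a⟩ := (PicGrp.cls_eq_cls_iff _ _).1 e
    have ec : cl hH.1 = cl (AmpleLib.isInvertible_tensorPow hI m) := cl_congr _ _ a
    rw [ec, hpow hI m (cl_mem _), form_comm, hpow hI m (cl_mem hI)] at hHH
    have hpos : 0 < pairing k (ClSub.quotMod J) (cl hH.1) := by
      have hs : CohB1.support (ClSub.quotMod J) = (J.support : Set X) := by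
        refine Set.Subset.antisymm (IntLib.support_quotMod_subset J) fun y hy => ?_
        rw [← Scheme.IdealSheafData.range_subschemeι] at hy
        obtain ⟨z, rfl⟩ := hy
        intro h
        haveI : Subsingleton ((ClSub.quotMod J).presheaf.stalk (J.subschemeι z)) := h
        haveI : Nontrivial ((Coh.structureModule J.subscheme).presheaf.stalk z) :=
          (ParaFLib.bijective_oneG z).1.nontrivial
        exact not_subsingleton ((Coh.structureModule J.subscheme).presheaf.stalk z)
          (Function.Surjective.subsingleton (f := DCohLib.pushStalk J.subschemeι (Coh.structureModule J.subscheme) z)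
            (DCohLib.bijective_pushStalk _ _ z).2)
      have h := (isPos_cl_pow k hH 1 _ (IntLib.isCoh_quotMod J) (by rw [hs, hJd]; exact_mod_cast Nat.lt_succ_self 1)).2
        ((HilbLib.not_dim_lt_iff (hs ▸ J.support.isClosed) 1).1 (by
          rw [hs, hJd]
          exact not_lt.2 (le_of_eq Nat.cast_one)))
      rwa [pow_one] at h
    rw [TwistShriek.pairing_quotMod_cl k hI, ec, form_comm, hpow hI m (cl_mem hI)] at hpos
    nlinarith
  · have e : PicGrp.cls H hH.1 = PicGrp.cls _ (AmpleLib.isInvertible_tensorPow hL m) := by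
      rw [hn, zpow_neg, zpow_natCast, ← inv_pow, PicGrp.cls_inv_eq_cls hI hL ⟨AmpleLib.comm _ L ≪≫ θ'⟩]
      exact Subtype.ext (PicGrp.cls_pow_val hL m)
    obtain ⟨a⟩ := (PicGrp.cls_eq_cls_iff _ _).1 e
    rcases Nat.eq_zero_or_pos m with h0 | h0
    · subst h0
      have ec : cl hH.1 = cl (AmpleLib.isInvertible_tensorPow hL 0) := cl_congr _ _ a
      rw [ec, hpow hL 0 (cl_mem _), Nat.cast_zero, zero_mul] at hHH
      exact absurd hHH (lt_irrefl _)
    · exact (AmpleLib.isAmple_pow_iff hL h0).1 (AmpleLib.isAmple_of_iso a hH)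

variable [Smooth (X ↘ Spec (CommRingCat.of k))]

/-- Lazarsfeld–Mukai bundles are simple when the Picard group is generated by the curve. -/
theorem exists_eq_mulEnd (hdim : topologicalKrullDim X = 2) {H : X.Modules} (hH : CohB1.IsAmple H)
    {C : Scheme.{u}} [C.Over (Spec (CommRingCat.of k))]
    [IsIntegral C] (hC : topologicalKrullDim C = 1) (i : C ⟶ X) [IsClosedImmersion i]
    (hi : i ≫ (X ↘ Spec (CommRingCat.of k)) = C ↘ Spec (CommRingCat.of k))
    (hI : PicF.IsInvertible (ClSub.idealMod i.ker))
    (hgen : ∀ c : PicLoc.PicSet X, ∃ n : ℤ, c = PicGrp.cls (ClSub.idealMod i.ker) hI ^ n)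
    {A : C.Modules} (hA : PicF.IsInvertible A) {e : ℕ} (lam : FlatMod.freeMod X e ⟶ (Coh.push i).obj A) [Epi lam]
    (hlam : Function.Injective (CurveLib.hMap (k := k) lam 0)) (φ : kernel lam ⟶ kernel lam) :
    ∃ c : k, φ = FactorOne.mulEnd (kernel lam) (Coh.toGlobal (X ↘ Spec (CommRingCat.of k)) c) := by
  haveI := EulerIneqLib.isNoetherian_proper (X := X) k
  have hJd : topologicalKrullDim (i.ker.support : Set X) = 1 := by
    rw [Scheme.Hom.support_ker, i.isClosedEmbedding.isClosed_range.closure_eq, ← hC]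
    exact (i.isEmbedding.toHomeomorph.isHomeomorph.topologicalKrullDim_eq).symm
  obtain ⟨L, hL, ⟨θ⟩⟩ := exists_ample_inverse k hdim hH hJd hI hgen
  obtain ⟨hFc, hFtf, hst⟩ := isMuStable_kernel k hdim hC i hi hI hgen θ hL hA lam hlam
  haveI := hFc.1
  exact MuSimpleLib.exists_eq_mulEnd k hL one_le_two hst
    (MuSimpleLib.isPure_of_isTF (n := 2) hdim (isTF_of_isTorsionFree hFtf)) φ

end Groth.Agent.LazMuk
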